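import Cfsg.Agent.HeldU.Module.Data

/-! # The checks for shape 1 -/

set_option autoImplicit false
set_option maxRecDepth 20000
set_option maxHeartbeats 4000000

namespace CfsgLib.HeldMod

theorem dat1_step : dat1.stepOK = true := by decide +kernel

theorem dat1_cover : dat1.coverOK = true := by decide +kernel

theorem dat1_piece : dat1.pieceOK = true := by decide +kernel

theorem dat1_cls0 : dat1.clsOK t1C0 = true := by decide +kernel

theorem dat1_roots0 : dat1.rootsOK t1C0 = true := by decide +kernel

theorem dat1_wit0 : dat1.witOK t1C0 = true := by decide +kernel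

theorem dat1_cls1 : dat1.clsOK t1C1 = true := by decide +kernel

theorem dat1_roots1 : dat1.rootsOK t1C1 = true := by decide +kernel

theorem dat1_wit1 : dat1.witOK t1C1 = true := by decide +kernel

theorem dat1_cls2 : dat1.clsOK t1C2 = true := by decide +kernel

theorem dat1_roots2 : dat1.rootsOK t1C2 = true := by decide +kernel

theorem dat1_wit2 : dat1.witOK t1C2 = true := by decide +kernel

theorem dat1_cls3 : dat1.clsOK t1C3 = true := by decide +kernel

theorem dat1_roots3 : dat1.rootsOK t1C3 = true := by decide +kernel

theorem dat1_wit3 : dat1.witOK t1C3 = true := by decide +kernel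

theorem dat1_ok : dat1.OK := by
  refine ⟨dat1_step, ?_, ?_, ?_, dat1_cover, dat1_piece⟩ <;> intro c hc <;>
    simp only [dat1, List.mem_cons, List.not_mem_nil, or_false] at hc <;>
    rcases hc with rfl | rfl | rfl | rfl
  exacts [dat1_cls0, dat1_cls1, dat1_cls2, dat1_cls3, dat1_roots0, dat1_roots1,
    dat1_roots2, dat1_roots3, dat1_wit0, dat1_wit1, dat1_wit2, dat1_wit3]

end CfsgLib.HeldMod
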