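import Cfsg.Agent.HeldU.Module.Data

/-! # The checks for shape 2 -/

set_option autoImplicit false
set_option maxRecDepth 20000
set_option maxHeartbeats 4000000

namespace CfsgLib.HeldMod

theorem dat2_step : dat2.stepOK = true := by decide +kernel

theorem dat2_cover : dat2.coverOK = true := by decide +kernel

theorem dat2_piece : dat2.pieceOK = true := by decide +kernel

theorem dat2_cls0 : dat2.clsOK t2C0 = true := by decide +kernel

theorem dat2_roots0 : dat2.rootsOK t2C0 = true := by decide +kernel

theorem dat2_wit0 : dat2.witOK t2C0 = true := by decide +kernel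

theorem dat2_cls1 : dat2.clsOK t2C1 = true := by decide +kernel

theorem dat2_roots1 : dat2.rootsOK t2C1 = true := by decide +kernel

theorem dat2_wit1 : dat2.witOK t2C1 = true := by decide +kernel

theorem dat2_cls2 : dat2.clsOK t2C2 = true := by decide +kernel

theorem dat2_roots2 : dat2.rootsOK t2C2 = true := by decide +kernel

theorem dat2_wit2 : dat2.witOK t2C2 = true := by decide +kernel

theorem dat2_cls3 : dat2.clsOK t2C3 = true := by decide +kernel

theorem dat2_roots3 : dat2.rootsOK t2C3 = true := by decide +kernel

theorem dat2_wit3 : dat2.witOK t2C3 = true := by decide +kernel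

theorem dat2_ok : dat2.OK := by
  refine ⟨dat2_step, ?_, ?_, ?_, dat2_cover, dat2_piece⟩ <;> intro c hc <;>
    simp only [dat2, List.mem_cons, List.not_mem_nil, or_false] at hc <;>
    rcases hc with rfl | rfl | rfl | rfl
  exacts [dat2_cls0, dat2_cls1, dat2_cls2, dat2_cls3, dat2_roots0, dat2_roots1,
    dat2_roots2, dat2_roots3, dat2_wit0, dat2_wit1, dat2_wit2, dat2_wit3]

end CfsgLib.HeldMod
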