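import Cfsg.Agent.HeldU.Module.Image
import Cfsg.Agent.HeldU.Module.Check1
import Cfsg.Agent.HeldU.Module.Check2
import Cfsg.Agent.ZStar.Final
import Cfsg.Prelude.Def_TwoFusion

/-!
# The extraspecial subgroup splits into two normal elementary abelian pieces

In a simple group of order `4030387200` the centralizer `2^(1+6).L3(2)` cannot act uniserially.
-/

set_option autoImplicit false
set_option linter.unusedSectionVars false
set_option maxRecDepth 4000

namespace CfsgLib.HeldMod

theorem maskOK : ([56, 7].all fun mask =>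
    decide (((List.range 128).filter fun n => n &&& mask == 0).length = 16) &&
    (List.range 128).all fun n => !(n &&& mask == 0) ||
      (ap cS n &&& mask == 0 && ap cW0 n &&& mask == 0 && (n ^^^ 64) &&& mask == 0 && qm n n == 0 &&
        (List.range 128).all fun m => !(m &&& mask == 0) ||
          (qm n m &&& mask == 0 && qm n m == qm m n))) = true := by
  decide +kernel

theorem code_split : ∀ n < 128, ∃ a < 128, a &&& 56 = 0 ∧ ∃ b < 128, b &&& 7 = 0 ∧ qm a b = n := by
  intro n hn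
  have h : ((List.range 128).all fun n => (List.range 128).any fun a =>
      a &&& 56 == 0 && qm a (n &&& 56) == n) = true := by decide +kernel
  obtain ⟨a, ha, h'⟩ := List.any_eq_true.1 (List.all_eq_true.1 h n (List.mem_range.2 hn))
  simp only [Bool.and_eq_true, beq_iff_eq] at h'
  refine ⟨a, List.mem_range.1 ha, h'.1, n &&& 56, lt_of_le_of_lt Nat.and_le_left hn, ?_, h'.2⟩
  rw [Nat.and_assoc]; exact Nat.and_zero n

section

variable {C : Type*} [Group C] [Finite C] {z : C} {Q : Subgroup C} (K : Chart z Q) {s w : C}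
  (hs : K.T s = cS) (hw : K.T w = cW0) (hgen : ∀ H : Subgroup C, Q ≤ H → s ∈ H → w ∈ H → H = ⊤)

include hs hw hgen

/-- A split shape gives a normal piece for each mask. -/
theorem split_piece {mask : ℕ} (hmask : mask = 56 ∨ mask = 7) :
    ∃ E : Subgroup C, (∀ x, x ∈ E ↔ ∃ n < 128, n &&& mask = 0 ∧ K.f n = x) ∧ E.Normal ∧
      Cfsg.IsElementaryAbelian 2 E ∧ Nat.card E = 16 := by
  classical
  have h := List.all_eq_true.1 maskOK mask (by rcases hmask with rfl | rfl <;> simp)
  simp only [Bool.and_eq_true, decide_eq_true_eq, List.all_eq_true, List.mem_range, Bool.or_eq_true,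
    Bool.not_eq_true', beq_eq_false_iff_ne, beq_iff_eq] at h
  obtain ⟨hc, hall⟩ := h
  have hst : ∀ n < 128, n &&& mask = 0 →
      ap cS n &&& mask = 0 ∧ ap cW0 n &&& mask = 0 ∧ (n ^^^ 64) &&& mask = 0 ∧ qm n n = 0 ∧
        ∀ m < 128, m &&& mask = 0 → qm n m &&& mask = 0 ∧ qm n m = qm m n := by
    intro n hn hm
    obtain ⟨⟨⟨⟨a, b⟩, c⟩, d⟩, e⟩ := (hall n hn).resolve_left (by simp [hm])
    exact ⟨a, b, c, d, fun j hj hjm => (e j hj).resolve_left (by simp [hjm])⟩
  have hsq : ∀ x : C, (∃ n < 128, n &&& mask = 0 ∧ K.f n = x) → x * x = 1 := by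
    rintro x ⟨n, hn, hm, rfl⟩
    rw [← K.f_mul n hn n hn, (hst n hn hm).2.2.2.1, K.f_zero]
  let E : Subgroup C :=
    { carrier := {x | ∃ n < 128, n &&& mask = 0 ∧ K.f n = x}
      one_mem' := ⟨0, by omega, Nat.zero_and _, K.f_zero⟩
      mul_mem' := by
        rintro a b ⟨n, hn, hm, rfl⟩ ⟨j, hj, hjm, rfl⟩
        exact ⟨qm n j, qm_lt hn hj, ((hst n hn hm).2.2.2.2 j hj hjm).1, K.f_mul n hn j hj⟩
      inv_mem' := by
        intro a ha
        rwa [inv_eq_of_mul_eq_one_right (hsq a ha)] }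
  refine ⟨E, fun x => Iff.rfl, ?_, ⟨⟨⟨fun a b => Subtype.ext ?_⟩⟩, fun a ha => by rw [pow_two]; exact hsq a ha⟩, ?_⟩
  · let N : Subgroup C := Subgroup.normalizer (E : Set C)
    have hin : ∀ g, (∀ x ∈ E, g * x * g⁻¹ ∈ E) → g ∈ N := fun g hg => by
      rw [Subgroup.mem_normalizer_iff]
      intro x
      refine ⟨hg x, fun hx => ?_⟩
      obtain ⟨u, hu, e⟩ := ((Set.toFinite (E : Set C)).injOn_iff_bijOn_of_mapsTo
        (f := fun u => g * u * g⁻¹) hg).1
        (fun _ _ _ _ e => mul_left_cancel (mul_right_cancel e)) |>.surjOn hx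
      rwa [← mul_left_cancel (mul_right_cancel e)]
    have hQN : Q ≤ N := fun q hq => hin q fun x ⟨n, hn, hm, e⟩ => by
      obtain ⟨b, hb⟩ := K.ext.inner_eqv hq (K.f_mem n hn)
      subst e
      rw [hb]
      cases b
      · exact ⟨n, hn, hm, by simp [tp]⟩
      · exact ⟨n ^^^ 64, Nat.xor_lt_two_pow (n := 7) hn (by norm_num), (hst n hn hm).2.2.1, K.f_xor64 hn⟩
    have hsN : s ∈ N := hin s fun x ⟨n, hn, hm, e⟩ => by
      subst e
      exact ⟨ap cS n, ap_lt _ _, (hst n hn hm).1, by rw [K.conj_f s hn, hs]⟩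
    have hwN : w ∈ N := hin w fun x ⟨n, hn, hm, e⟩ => by
      subst e
      exact ⟨ap cW0 n, ap_lt _ _, (hst n hn hm).2.1, by rw [K.conj_f w hn, hw]⟩
    refine ⟨fun x hx g => ?_⟩
    have : g ∈ N := hgen N hQN hsN hwN ▸ Subgroup.mem_top g
    exact (Subgroup.mem_normalizer_iff.1 this x).1 hx
  · obtain ⟨n, hn, hm, e⟩ := a.2
    obtain ⟨j, hj, hjm, e'⟩ := b.2
    show (a : C) * b = b * a
    rw [← e, ← e', ← K.f_mul n hn j hj, ← K.f_mul j hj n hn, ((hst n hn hm).2.2.2.2 j hj hjm).2]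
  · haveI := Fintype.ofFinite E
    rw [Nat.card_eq_fintype_card,
      Fintype.card_of_subtype (((List.range 128).filter fun n => n &&& mask == 0).map K.f).toFinset
        fun x => ?_, List.toFinset_card_of_nodup, List.length_map, hc]
    · exact (List.nodup_range.filter _).map_on fun a ha b hb e => K.f_inj a
        (List.mem_range.1 (List.mem_filter.1 ha).1) b (List.mem_range.1 (List.mem_filter.1 hb).1) e
    · simp only [List.mem_toFinset, List.mem_map, List.mem_filter, List.mem_range, beq_iff_eq]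
      exact ⟨fun ⟨n, ⟨a, b⟩, e⟩ => ⟨n, a, b, e⟩, fun ⟨n, a, b, e⟩ => ⟨n, ⟨a, b⟩, e⟩⟩

/-- A split shape gives the two pieces. -/
theorem split_pair : ∃ E₁ E₂ : Subgroup C, E₁.Normal ∧ E₂.Normal ∧ Cfsg.IsElementaryAbelian 2 E₁ ∧
    Cfsg.IsElementaryAbelian 2 E₂ ∧ Nat.card E₁ = 16 ∧ Nat.card E₂ = 16 ∧
    E₁ ⊓ E₂ = Subgroup.zpowers z ∧ E₁ ⊔ E₂ = Q := by
  obtain ⟨E₁, h1, n1, a1, c1⟩ := split_piece K hs hw hgen (mask := 56) (Or.inl rfl)
  obtain ⟨E₂, h2, n2, a2, c2⟩ := split_piece K hs hw hgen (mask := 7) (Or.inr rfl)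
  refine ⟨E₁, E₂, n1, n2, a1, a2, c1, c2, ?_, ?_⟩
  · refine le_antisymm (fun x hx => ?_) (Subgroup.zpowers_le.2
      ⟨(h1 z).2 ⟨64, by norm_num, by rfl, K.f_z⟩, (h2 z).2 ⟨64, by norm_num, by rfl, K.f_z⟩⟩)
    obtain ⟨n, hn, hn56, e⟩ := (h1 x).1 hx.1
    obtain ⟨m, hm, hm7, e'⟩ := (h2 x).1 hx.2
    obtain rfl := K.f_inj n hn m hm (e.trans e'.symm)
    have : ∀ n < 128, n &&& 56 = 0 → n &&& 7 = 0 → n = 0 ∨ n = 64 := by decide +kernel
    rcases this n hn hn56 hm7 with rfl | rfl <;> rw [← e]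
    · rw [K.f_zero]; exact one_mem _
    · rw [K.f_z]; exact Subgroup.mem_zpowers z
  · refine le_antisymm (sup_le (fun x hx => ?_) fun x hx => ?_) fun x hx => ?_
    · obtain ⟨n, hn, -, rfl⟩ := (h1 x).1 hx; exact K.f_mem n hn
    · obtain ⟨n, hn, -, rfl⟩ := (h2 x).1 hx; exact K.f_mem n hn
    · obtain ⟨n, hn, rfl⟩ := K.f_surj x hx
      obtain ⟨a, ha, ha', b, hb, hb', rfl⟩ := code_split n hn
      rw [K.f_mul a ha b hb]
      exact Subgroup.mul_mem_sup ((h1 _).2 ⟨a, ha, ha', rfl⟩) ((h2 _).2 ⟨b, hb, hb', rfl⟩)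

end

/-- No shape preserving one piece only occurs. -/
theorem not_uniserial {G : Type*} [Group G] [Finite G] [IsSimpleGroup G] {t : G} (ht : orderOf t = 2)
    (hG : Nat.card G = 4030387200)
    (hC : Nat.card (Subgroup.centralizer ({t} : Set G)) = 21504)
    {Q : Subgroup (Subgroup.centralizer ({t} : Set G))}
    {K : Chart (⟨t, Subgroup.mem_centralizer_singleton_iff.2 rfl⟩ :
        Subgroup.centralizer ({t} : Set G)) Q}
    {D : Dat} {s w : Subgroup.centralizer ({t} : Set G)} (R : Real K D s w) : False := by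
  classical
  set z : Subgroup.centralizer ({t} : Set G) := ⟨t, Subgroup.mem_centralizer_singleton_iff.2 rfl⟩
  obtain ⟨E, hEset, hEn, hzE, hE16, hEsq, hEcomm, horb, htrans⟩ := R.exists_piece
  have htt : t * t = 1 := by rw [← sq, ← ht]; exact pow_orderOf_eq_one t
  have t1 : t ≠ 1 := fun h => by rw [h, orderOf_one] at ht; norm_num at ht
  have hsq : ∀ a : G, a * t * a⁻¹ * (a * t * a⁻¹) = 1 := fun a => by
    calc a * t * a⁻¹ * (a * t * a⁻¹) = a * (t * t) * a⁻¹ := by group
      _ = 1 := by rw [htt]; group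
  have hne1 : ∀ a : G, a * t * a⁻¹ ≠ 1 := fun a h => t1 (conj_eq_one_iff.1 h)
  -- every conjugate of `t` in the centraliser lies in the piece
  have inE : ∀ g : G, ∀ hc : g * t * g⁻¹ ∈ Subgroup.centralizer ({t} : Set G),
      (⟨_, hc⟩ : Subgroup.centralizer ({t} : Set G)) ∈ E := by
    intro g hc
    by_contra hx
    set x := g * t * g⁻¹ with hxdef
    set y := g⁻¹ * t * g with hydef
    have hxt : x * t = t * x := Subgroup.mem_centralizer_singleton_iff.1 hc
    have hyt : y * t = t * y := by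
      rw [hydef]
      calc g⁻¹ * t * g * t = g⁻¹ * (t * x) * g := by rw [hxdef]; group
        _ = g⁻¹ * (x * t) * g := by rw [hxt]
        _ = t * (g⁻¹ * t * g) := by rw [hxdef]; group
    have hyc : y ∈ Subgroup.centralizer ({t} : Set G) := Subgroup.mem_centralizer_singleton_iff.2 hyt
    have hy' : y = g⁻¹ * t * g⁻¹⁻¹ := by rw [inv_inv]
    set X : Subgroup.centralizer ({t} : Set G) := ⟨x, hc⟩
    set Y : Subgroup.centralizer ({t} : Set G) := ⟨y, hyc⟩
    have hX := R.outside (x := X) (Subtype.ext (hsq g)) (fun h => hx (hEset ▸ h : X ∈ (E : Set _)))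
    have sub : ∀ (v : Subgroup.centralizer ({t} : Set G)),
        nCent v = Nat.card {u : G // u * t = t * u ∧ u * v.1 = v.1 * u} := fun v =>
      Nat.card_congr
        { toFun := fun u => ⟨u.1.1, Subgroup.mem_centralizer_singleton_iff.1 u.1.2,
            congrArg Subtype.val (Subgroup.mem_centralizer_singleton_iff.1 u.2)⟩
          invFun := fun u => ⟨⟨u.1, Subgroup.mem_centralizer_singleton_iff.2 u.2.1⟩,
            Subgroup.mem_centralizer_singleton_iff.2 (Subtype.ext u.2.2)⟩
          left_inv := fun u => rfl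
          right_inv := fun u => rfl }
    have sub1 : ∀ (v : Subgroup.centralizer ({t} : Set G)),
        nRoots v = Nat.card {u : G // u * t = t * u ∧ u * v.1 = v.1 * u ∧ u * u = v.1} := fun v =>
      Nat.card_congr
        { toFun := fun u => ⟨u.1.1, Subgroup.mem_centralizer_singleton_iff.1 u.1.2, by
            have h := congrArg Subtype.val u.2
            simp only [Subgroup.coe_mul] at h
            exact ⟨by rw [← h]; group, h⟩⟩
          invFun := fun u => ⟨⟨u.1, Subgroup.mem_centralizer_singleton_iff.2 u.2.1⟩, Subtype.ext u.2.2.2⟩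
          left_inv := fun u => rfl
          right_inv := fun u => rfl }
    have sub2 : ∀ (v : Subgroup.centralizer ({t} : Set G)),
        nRootsComm z v = Nat.card {u : G // u * t = t * u ∧ u * v.1 = v.1 * u ∧ u * u = t} := fun v =>
      Nat.card_congr
        { toFun := fun u => ⟨u.1.1, Subgroup.mem_centralizer_singleton_iff.1 u.1.2,
            congrArg Subtype.val u.2.2, congrArg Subtype.val u.2.1⟩
          invFun := fun u => ⟨⟨u.1, Subgroup.mem_centralizer_singleton_iff.2 u.2.1⟩,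
            Subtype.ext u.2.2.2, Subtype.ext u.2.2.1⟩
          left_inv := fun u => rfl
          right_inv := fun u => rfl }
    have e : ∀ a b : G, g * a * g⁻¹ * (g * b * g⁻¹) = g * (a * b) * g⁻¹ := fun a b => by group
    have hgy : g * y * g⁻¹ = t := by rw [hydef]; group
    have moved : ∀ (P : G → Prop),
        Nat.card {u : G // P (g * u * g⁻¹)} = Nat.card {u : G // P u} := fun P =>
      Nat.card_congr ((MulAut.conj g).toEquiv.subtypeEquiv fun u => Iff.rfl)
    have hcent : nCent X = nCent Y := by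
      rw [sub, sub]
      show Nat.card {u : G // u * t = t * u ∧ u * x = x * u} =
        Nat.card {u : G // u * t = t * u ∧ u * y = y * u}
      rw [← moved (fun u => u * t = t * u ∧ u * x = x * u)]
      refine Nat.card_congr (Equiv.subtypeEquivRight fun u => ?_)
      conv_lhs => rw [← hgy, hxdef]
      simp only [e, mul_left_inj, mul_right_inj]
      exact and_comm
    by_cases hyE : Y ∈ E
    · by_cases hYz : Y = z
      · have : y = t := congrArg Subtype.val hYz
        refine hx ?_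
        have hxeq : X = z := Subtype.ext (by
          show x = t
          rw [hxdef]; nth_rw 1 [← this]; rw [hgy])
        rw [hxeq]; exact hzE
      · have hY1 : Y ≠ 1 := fun h => hne1 g⁻¹ (by
          rw [← hy']; exact congrArg Subtype.val h)
        have h14 := horb Y hyE hY1 hYz
        have h1 := nCent_mul_orbit Y
        have h2 := hX.2
        rw [hcent, ← h1] at h2
        have hpos : 0 < nCent Y := Nat.card_pos
        have := Nat.le_of_mul_le_mul_left h2 hpos
        omega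
    · have hY := R.outside (x := Y) (Subtype.ext (by show y * y = 1; rw [hy']; exact hsq g⁻¹))
        (fun h => hyE (hEset ▸ h : Y ∈ (E : Set _)))
      have h1 := hX.1
      have h2 := hY.1
      rw [sub1, sub2] at h1 h2
      have e1 : Nat.card {u : G // u * t = t * u ∧ u * y = y * u ∧ u * u = y} =
          Nat.card {u : G // u * t = t * u ∧ u * x = x * u ∧ u * u = t} := by
        rw [← moved (fun u => u * t = t * u ∧ u * x = x * u ∧ u * u = t)]
        refine Nat.card_congr (Equiv.subtypeEquivRight fun u => ?_)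
        conv_rhs => rw [← hgy, hxdef]
        simp only [e, mul_left_inj, mul_right_inj]
        exact and_left_comm
      have e2 : Nat.card {u : G // u * t = t * u ∧ u * y = y * u ∧ u * u = t} =
          Nat.card {u : G // u * t = t * u ∧ u * x = x * u ∧ u * u = x} := by
        rw [← moved (fun u => u * t = t * u ∧ u * x = x * u ∧ u * u = x)]
        refine Nat.card_congr (Equiv.subtypeEquivRight fun u => ?_)
        conv_rhs => rw [← hgy, hxdef]
        simp only [e, mul_left_inj, mul_right_inj]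
        exact and_left_comm
      change Nat.card {u : G // u * t = t * u ∧ u * x = x * u ∧ u * u = x} < _ at h1
      change Nat.card {u : G // u * t = t * u ∧ u * y = y * u ∧ u * u = y} < _ at h2
      rw [e1] at h2
      exact absurd (h1.trans_le (le_of_eq rfl)) (not_lt_of_gt (lt_of_lt_of_eq h2 e2))
  -- `t` is fused into the piece
  have hfused : ∃ g : G, ∃ hc : g * t * g⁻¹ ∈ Subgroup.centralizer ({t} : Set G), g * t * g⁻¹ ≠ t := by
    by_contra h
    push Not at h
    have hiso : Cfsg.IsIsolatedInvolution t := ⟨ht, fun g hg =>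
      h g (Subgroup.mem_centralizer_singleton_iff.2 hg.symm.eq)⟩
    obtain ⟨N, hN, hodd, hcomm⟩ := ZStar.zstar hiso
    rcases hN.eq_bot_or_eq_top with rfl | rfl
    · have htop : Subgroup.centralizer ({t} : Set G) = ⊤ := by
        refine eq_top_iff.2 fun g _ => Subgroup.mem_centralizer_singleton_iff.2 ?_
        have h := Subgroup.mem_bot.1 (hcomm g)
        rw [mul_inv_eq_one, mul_inv_eq_iff_eq_mul] at h
        first | exact h | exact h.symm
      rw [htop, Subgroup.card_top, hG] at hC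
      norm_num at hC
    · rw [Subgroup.card_top] at hodd
      exact (Nat.not_even_iff_odd.2 hodd) (even_iff_two_dvd.2 (ht ▸ orderOf_dvd_natCard t))
  obtain ⟨g₁, hc₁, hne₁⟩ := hfused
  set EG : Subgroup G := E.map (Subgroup.centralizer ({t} : Set G)).subtype with hEGdef
  have hEG : Nat.card EG = 16 := by
    rw [hEGdef, Subgroup.card_map_of_injective Subtype.val_injective, hE16]
  have memEG : ∀ u : G, u ∈ EG ↔
      ∃ hc : u ∈ Subgroup.centralizer ({t} : Set G), (⟨u, hc⟩ : Subgroup.centralizer ({t} : Set G)) ∈ E := by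
    intro u
    constructor
    · rintro ⟨v, hv, rfl⟩; exact ⟨v.2, hv⟩
    · rintro ⟨hc, hv⟩; exact ⟨⟨u, hc⟩, hv, rfl⟩
  have htEG : t ∈ EG := (memEG t).2 ⟨_, hzE⟩
  have conjT : ∀ u ∈ EG, u ≠ 1 → IsConj t u := by
    intro u hu hu1
    obtain ⟨hc, hv⟩ := (memEG u).1 hu
    by_cases hut : u = t
    · rw [hut]
    have hv₁ := inE g₁ hc₁
    obtain ⟨a, ha⟩ := isConj_iff.1 (htrans _ hv₁ (fun h => hne1 g₁ (congrArg Subtype.val h))
      (fun h => hne₁ (congrArg Subtype.val h)) _ hv (fun h => hu1 (congrArg Subtype.val h))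
      (fun h => hut (congrArg Subtype.val h)))
    have ha' := congrArg Subtype.val ha
    simp only [Subgroup.coe_mul, Subgroup.coe_inv] at ha'
    refine isConj_iff.2 ⟨a.1 * g₁, ?_⟩
    rw [← ha']; group
  have commEG : ∀ u ∈ EG, ∀ v ∈ EG, u * v = v * u := by
    intro u hu v hv
    obtain ⟨hc, hu'⟩ := (memEG u).1 hu
    obtain ⟨hd, hv'⟩ := (memEG v).1 hv
    exact congrArg Subtype.val (hEcomm _ hu' _ hv')
  have conjE : ∀ u : G, IsConj t u → u * t = t * u → u ∈ EG := by
    intro u hu hut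
    obtain ⟨g, rfl⟩ := isConj_iff.1 hu
    exact (memEG _).2 ⟨Subgroup.mem_centralizer_singleton_iff.2 hut, inE g _⟩
  -- the conjugates of the piece
  let P := {H : Subgroup G // ∃ g : G, H = EG.map (MulAut.conj g).toMonoidHom}
  have memP : ∀ (g u : G), u ∈ EG.map (MulAut.conj g).toMonoidHom ↔ g⁻¹ * u * g ∈ EG := by
    intro g u
    constructor
    · rintro ⟨v, hv, rfl⟩
      simpa [mul_assoc] using hv
    · intro h; exact ⟨_, h, by simp [mul_assoc]⟩
  have P16 : ∀ H : P, Nat.card H.1 = 16 := by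
    rintro ⟨_, g, rfl⟩
    rw [Subgroup.card_map_of_injective (MulAut.conj g).injective, hEG]
  have Pconj : ∀ H : P, ∀ u ∈ H.1, u ≠ 1 → IsConj t u := by
    rintro ⟨_, g, rfl⟩ u hu hu1
    have h := (memP g u).1 hu
    exact (conjT _ h (fun e => hu1 (by
      calc u = g * (g⁻¹ * u * g) * g⁻¹ := by group
        _ = 1 := by rw [e]; group))).trans (isConj_iff.2 ⟨g, by group⟩)
  have Pall : ∀ H : P, ∀ u ∈ H.1, u ≠ 1 → ∀ v, IsConj t v → v * u = u * v → v ∈ H.1 := by
    rintro ⟨_, g, rfl⟩ u hu hu1 v hv hvu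
    obtain ⟨a, ha⟩ := isConj_iff.1 (conjT _ ((memP g u).1 hu) (fun e => hu1 (by
      calc u = g * (g⁻¹ * u * g) * g⁻¹ := by group
        _ = 1 := by rw [e]; group)))
    -- `a` carries `t` to a member of the piece, so it fixes the piece
    have hfix : ∀ p ∈ EG, a * p * a⁻¹ ∈ EG := by
      intro p hp
      by_cases hp1 : p = 1
      · rw [hp1, mul_one, mul_inv_cancel]; exact one_mem _
      refine conjE _ ((conjT p hp hp1).trans (isConj_iff.2 ⟨a, rfl⟩)) ?_
      have hk : (a * t * a⁻¹) * t = t * (a * t * a⁻¹) := by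
        rw [ha]; exact commEG _ ((memP g u).1 hu) _ htEG
      have hq : a⁻¹ * t * a ∈ EG := conjE _ (isConj_iff.2 ⟨a⁻¹, by rw [inv_inv]⟩) (by
        calc a⁻¹ * t * a * t = a⁻¹ * (t * (a * t * a⁻¹)) * a := by group
          _ = a⁻¹ * ((a * t * a⁻¹) * t) * a := by rw [hk]
          _ = _ := by group)
      calc a * p * a⁻¹ * t = a * (p * (a⁻¹ * t * a)) * a⁻¹ := by group
        _ = a * ((a⁻¹ * t * a) * p) * a⁻¹ := by rw [commEG _ hp _ hq]
        _ = _ := by group
    rw [memP]
    have hv' : a⁻¹ * (g⁻¹ * v * g) * a ∈ EG := by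
      refine conjE _ (hv.trans (isConj_iff.2 ⟨a⁻¹ * g⁻¹, by group⟩)) ?_
      have hvu' : (g⁻¹ * v * g) * (g⁻¹ * u * g) = (g⁻¹ * u * g) * (g⁻¹ * v * g) := by
        calc (g⁻¹ * v * g) * (g⁻¹ * u * g) = g⁻¹ * (v * u) * g := by group
          _ = g⁻¹ * (u * v) * g := by rw [hvu]
          _ = _ := by group
      calc a⁻¹ * (g⁻¹ * v * g) * a * t = a⁻¹ * ((g⁻¹ * v * g) * (a * t * a⁻¹)) * a := by group
        _ = a⁻¹ * ((a * t * a⁻¹) * (g⁻¹ * v * g)) * a := by rw [ha, hvu']
        _ = _ := by group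
    have := hfix _ hv'
    simpa [mul_assoc] using this
  have Pcomm : ∀ H : P, ∀ u ∈ H.1, ∀ v ∈ H.1, u * v = v * u := by
    rintro ⟨_, g, rfl⟩ u hu v hv
    have h := commEG _ ((memP g u).1 hu) _ ((memP g v).1 hv)
    calc u * v = g * (g⁻¹ * u * g * (g⁻¹ * v * g)) * g⁻¹ := by group
      _ = g * (g⁻¹ * v * g * (g⁻¹ * u * g)) * g⁻¹ := by rw [h]
      _ = _ := by group
  have Peq : ∀ H H' : P, ∀ u ∈ H.1, u ∈ H'.1 → u ≠ 1 → H = H' := by
    intro H H' u hu hu' hu1
    refine Subtype.ext (le_antisymm (fun v hv => ?_) fun v hv => ?_)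
    · by_cases hv1 : v = 1
      · rw [hv1]; exact one_mem _
      exact Pall H' u hu' hu1 v (Pconj H v hv hv1) (Pcomm H v hv u hu)
    · by_cases hv1 : v = 1
      · rw [hv1]; exact one_mem _
      exact Pall H u hu hu1 v (Pconj H' v hv hv1) (Pcomm H' v hv u hu')
  haveI : Finite P := Subtype.finite
  have hcountT : Nat.card {u : G // IsConj t u} = 187425 := by
    have h := nCent_mul_orbit t
    rw [hG, show nCent t = 21504 from hC] at h
    omega
  have hcountP : 15 * Nat.card P = 187425 := by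
    have e : {u : G // IsConj t u} ≃ (H : P) × {u : H.1 // u ≠ 1} :=
      (Equiv.ofBijective (fun p : (H : P) × {u : H.1 // u ≠ 1} =>
        (⟨p.2.1.1, Pconj p.1 _ p.2.1.2 fun h => p.2.2 (Subtype.ext h)⟩ : {u : G // IsConj t u}))
        ⟨by
          rintro ⟨H, ⟨u, hu⟩, hu1⟩ ⟨H', ⟨u', hu'⟩, hu1'⟩ h
          have h' : u = u' := congrArg Subtype.val h
          subst h'
          obtain rfl := Peq H H' u hu hu' (fun e => hu1 (Subtype.ext e))
          rfl,
        by
          rintro ⟨u, hu⟩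
          obtain ⟨g, rfl⟩ := isConj_iff.1 hu
          refine ⟨⟨⟨_, g, rfl⟩, ⟨g * t * g⁻¹, (memP g _).2 ?_⟩, fun h => hne1 g (congrArg Subtype.val h)⟩, rfl⟩
          simpa [mul_assoc] using htEG⟩).symm
    have h15 : ∀ H : P, Nat.card {u : H.1 // u ≠ 1} = 15 := by
      intro H
      haveI := Fintype.ofFinite H.1
      rw [Nat.card_eq_fintype_card, Fintype.card_subtype_compl, Fintype.card_subtype_eq,
        ← Nat.card_eq_fintype_card, P16]
    haveI := Fintype.ofFinite P
    have h := Nat.card_congr e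
    rw [Nat.card_sigma, Finset.sum_congr rfl (fun H _ => h15 H), hcountT, Finset.sum_const,
      Finset.card_univ, smul_eq_mul, ← Nat.card_eq_fintype_card] at h
    omega
  -- the piece permutes the other conjugates freely
  have hmapP : ∀ (c : G) (H : P), ∃ g, H.1.map (MulAut.conj c).toMonoidHom =
      EG.map (MulAut.conj g).toMonoidHom := by
    rintro c ⟨_, g, rfl⟩
    exact ⟨c * g, by rw [Subgroup.map_map]; congr 1; ext u; simp [mul_assoc]⟩
  let H₀ : P := ⟨EG, 1, by ext u; simp [memP]⟩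
  letI : MulAction EG P :=
    { smul := fun c H => ⟨_, hmapP c.1 H⟩
      one_smul := fun H => Subtype.ext (by
        show H.1.map (MulAut.conj (1 : G)).toMonoidHom = H.1
        ext u; simp)
      mul_smul := fun c d H => Subtype.ext (by
        show H.1.map (MulAut.conj (c.1 * d.1)).toMonoidHom =
          (H.1.map (MulAut.conj d.1).toMonoidHom).map (MulAut.conj c.1).toMonoidHom
        rw [Subgroup.map_map]; congr 1; ext u; simp [mul_assoc]) }
  have hsmul : ∀ (c : EG) (H : P), ∀ u, u ∈ (c • H).1 ↔ c.1⁻¹ * u * c.1 ∈ H.1 := by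
    intro c H u
    show u ∈ H.1.map (MulAut.conj c.1).toMonoidHom ↔ _
    constructor
    · rintro ⟨v, hv, rfl⟩; simpa [mul_assoc] using hv
    · intro h; exact ⟨_, h, by simp [mul_assoc]⟩
  have free : ∀ (c : EG) (H : P), c • H = H → H ≠ H₀ → c = 1 := by
    intro c H hcH hH
    by_contra hc1
    have hc1' : (c : G) ≠ 1 := fun h => hc1 (Subtype.ext h)
    have hinv : ∀ u, c.1⁻¹ * u * c.1 ∈ H.1 ↔ u ∈ H.1 := fun u => by rw [← hsmul c H u, hcH]
    let π : Equiv.Perm {u : H.1 // u ≠ 1} :=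
      { toFun := fun u => ⟨⟨c.1⁻¹ * u.1.1 * c.1, (hinv _).2 u.1.2⟩, fun h => u.2 (Subtype.ext (by
          have h' : c.1⁻¹ * u.1.1 * c.1 = 1 := congrArg Subtype.val h
          show u.1.1 = 1
          calc u.1.1 = c.1 * (c.1⁻¹ * u.1.1 * c.1) * c.1⁻¹ := by group
            _ = 1 := by rw [h']; group))⟩
        invFun := fun u => ⟨⟨c.1 * u.1.1 * c.1⁻¹, (hinv _).1 (by simp [mul_assoc])⟩, fun h =>
          u.2 (Subtype.ext (conj_eq_one_iff.1 (congrArg Subtype.val h)))⟩
        left_inv := fun u => Subtype.ext (Subtype.ext (by group))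
        right_inv := fun u => Subtype.ext (Subtype.ext (by group)) }
    have hcc : c.1 * c.1 = 1 := by
      obtain ⟨hc, hv⟩ := (memEG c.1).1 c.2
      exact congrArg Subtype.val (hEsq _ hv)
    have hci : c.1⁻¹ = c.1 := inv_eq_of_mul_eq_one_right hcc
    have hπ : π ^ (2 ^ 1) = 1 := by
      rw [pow_one, pow_two]
      refine Equiv.ext fun u => Subtype.ext (Subtype.ext ?_)
      show c.1⁻¹ * (c.1⁻¹ * u.1.1 * c.1) * c.1 = u.1.1
      calc c.1⁻¹ * (c.1⁻¹ * u.1.1 * c.1) * c.1 = (c.1 * c.1)⁻¹ * u.1.1 * (c.1 * c.1) := by group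
        _ = _ := by rw [hcc]; group
    haveI : Fact (Nat.Prime 2) := ⟨Nat.prime_two⟩
    haveI := Fintype.ofFinite {u : H.1 // u ≠ 1}
    have hodd : ¬ 2 ∣ Fintype.card {u : H.1 // u ≠ 1} := by
      haveI := Fintype.ofFinite H.1
      rw [Fintype.card_subtype_compl, Fintype.card_subtype_eq, ← Nat.card_eq_fintype_card, P16]
      norm_num
    obtain ⟨u, hu⟩ := Equiv.Perm.exists_fixed_point_of_prime hodd hπ
    have hcu : c.1⁻¹ * u.1.1 * c.1 = u.1.1 :=
      congrArg (fun v : {u : H.1 // u ≠ 1} => v.1.1) hu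
    have hcomm : c.1 * u.1.1 = u.1.1 * c.1 := by
      calc c.1 * u.1.1 = c.1 * (c.1⁻¹ * u.1.1 * c.1) := by rw [hcu]
        _ = _ := by group
    exact hH (Peq H H₀ c.1 (Pall H u.1.1 u.1.2 (fun h => u.2 (Subtype.ext h)) c.1
      (conjT c.1 c.2 hc1') hcomm) c.2 hc1')
  have fix0 : ∀ c : EG, c • H₀ = H₀ := fun c => Subtype.ext (Subgroup.ext fun u => by
    rw [hsmul]
    show c.1⁻¹ * u * c.1 ∈ EG ↔ u ∈ EG
    rw [mul_mem_cancel_right c.2, mul_mem_cancel_left (inv_mem c.2)])
  letI : MulAction EG {H : P // H ≠ H₀} :=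
    { smul := fun c H => ⟨c • H.1, fun h => H.2 (MulAction.injective c (h.trans (fix0 c).symm))⟩
      one_smul := fun H => Subtype.ext (one_smul EG H.1)
      mul_smul := fun c d H => Subtype.ext (mul_smul c d H.1) }
  have hdvd : 16 ∣ Nat.card {H : P // H ≠ H₀} := by
    haveI := Fintype.ofFinite (MulAction.orbitRel.Quotient EG {H : P // H ≠ H₀})
    rw [Nat.card_congr (MulAction.selfEquivSigmaOrbits EG {H : P // H ≠ H₀}), Nat.card_sigma]
    refine Finset.dvd_sum fun o _ => ?_
    have hst : MulAction.stabilizer EG o.out = ⊥ := eq_bot_iff.2 fun c hc =>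
      free c o.out.1 (congrArg Subtype.val hc) o.out.2
    rw [Nat.card_congr (MulAction.orbitEquivQuotientStabilizer EG o.out), ← Subgroup.index_eq_card, hst,
      Subgroup.index_bot, hEG]
  haveI := Fintype.ofFinite P
  rw [Nat.card_eq_fintype_card, Fintype.card_subtype_compl, Fintype.card_subtype_eq,
    ← Nat.card_eq_fintype_card] at hdvd
  omega

/-- The extraspecial subgroup is the product of two normal elementary abelian subgroups. -/
theorem held_module {G : Type*} [Group G] [Finite G] [IsSimpleGroup G] (t : G) (ht : orderOf t = 2)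
    (Q : Subgroup (Subgroup.centralizer ({t} : Set G))) [Q.Normal] (hQ : Cfsg.IsExtraspecial 2 Q)
    (hcard : Nat.card Q = 2 ^ 7)
    (h2c : Subgroup.centralizer (Q : Set (Subgroup.centralizer ({t} : Set G))) ≤ Q)
    (e : (Subgroup.centralizer ({t} : Set G)) ⧸ Q ≃* Matrix.SpecialLinearGroup (Fin 3) (ZMod 2))
    (hG : Nat.card G = 4030387200) :
    ∃ E₁ E₂ : Subgroup (Subgroup.centralizer ({t} : Set G)), E₁.Normal ∧ E₂.Normal ∧
      Cfsg.IsElementaryAbelian 2 E₁ ∧ Cfsg.IsElementaryAbelian 2 E₂ ∧ Nat.card E₁ = 16 ∧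
      Nat.card E₂ = 16 ∧
      E₁ ⊓ E₂ = Subgroup.zpowers
        (⟨t, Subgroup.mem_centralizer_singleton_iff.2 rfl⟩ : Subgroup.centralizer ({t} : Set G)) ∧
      E₁ ⊔ E₂ = Q := by
  have hC : Nat.card (Subgroup.centralizer ({t} : Set G)) = 21504 := by
    rw [Subgroup.card_eq_card_quotient_mul_card_subgroup Q, Nat.card_congr e.toEquiv, l32_card, hcard]
    norm_num
  obtain ⟨K, s, r, w₀, hg⟩ := exists_gens ht Q hQ hcard h2c e
  obtain ⟨w, hw, hgen⟩ := normalise K hg
  rcases hw with hw | hw | hw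
  · exact split_pair K hg.s_T hw hgen
  · exact (not_uniserial ht hG hC (D := dat1) ⟨dat1_ok, hg.s_T, hw, hgen⟩).elim
  · exact (not_uniserial ht hG hC (D := dat2) ⟨dat2_ok, hg.s_T, hw, hgen⟩).elim

end CfsgLib.HeldMod
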