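import Cfsg.Agent.HeldU.Module.Ext

/-!
# The action of the whole group on the codes
-/

set_option autoImplicit false
set_option linter.unusedSectionVars false

namespace CfsgLib.HeldMod

/-- The literal of the action of the seventh order element. -/
def cS : ℕ := pack fun i => [2, 4, 3, 24, 32, 8].getD i 0

theorem one_ap : ∀ c < 128, ap one c = c := by decide +kernel

theorem qm_z : ∀ a < 128, qm 64 a = a ^^^ 64 := by decide +kernel

theorem code_comm : ∀ n < 128, ∀ m < 128, qm n m = qm m n ^^^ b64 (bf n m) := by decide +kernel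

theorem inn_and63_all : ((List.range 128).all fun n => inn n == inn (n &&& 63)) = true := by
  decide +kernel

variable {C : Type*} [Group C] {z : C} {Q : Subgroup C}

namespace Chart

variable (K : Chart z Q)

theorem f_zero : K.f 0 = 1 := by
  have h := K.f_mul 0 (by omega) 0 (by omega)
  rw [show qm 0 0 = 0 from rfl] at h
  exact left_eq_mul.mp h

theorem f_xor64 {a : ℕ} (ha : a < 128) : K.f (a ^^^ 64) = z * K.f a := by
  rw [← qm_z a ha, K.f_mul 64 (by omega) a ha, K.f_z]

theorem f_flip {a : ℕ} (ha : a < 128) (b : Bool) : K.f (a ^^^ b64 b) = tp z b * K.f a := by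
  cases b
  · simp [b64, tp]
  · simpa [b64, tp] using K.f_xor64 ha

theorem kap_f {n m : ℕ} (hn : n < 128) (hm : m < 128) : kap (K.f n) (K.f m) = bf n m := by
  refine K.ext.kap_eq (K.f_mem n hn) (K.f_mem m hm) ?_
  rw [← K.f_mul n hn m hm, ← K.f_mul m hm n hn, ← K.f_flip (qm_lt hm hn), ← code_comm n hn m hm]

theorem map_ap {D : C →* C} (hz : D z = z) {T R : ℕ}
    (h : ∀ i < 6, D (K.f (get T i)) = K.f (get R i)) (c : ℕ) : D (K.f (ap T c)) = K.f (ap R c) := by
  have key : ∀ L : List ℕ, (∀ i ∈ L, i < 6) → ∀ r r', r < 128 → r' < 128 → D (K.f r) = K.f r' →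
      L.foldl (fun r i => if c.testBit i then qm r (get T i) else r) r < 128 ∧
      L.foldl (fun r i => if c.testBit i then qm r (get R i) else r) r' < 128 ∧
      D (K.f (L.foldl (fun r i => if c.testBit i then qm r (get T i) else r) r)) =
        K.f (L.foldl (fun r i => if c.testBit i then qm r (get R i) else r) r') := by
    intro L
    induction L with
    | nil => exact fun _ r r' a b e => ⟨a, b, e⟩
    | cons i L ih =>
      intro hL r r' hr hr' e
      rw [List.foldl_cons, List.foldl_cons]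
      refine ih (fun j hj => hL j (List.mem_cons_of_mem _ hj)) _ _ ?_ ?_ ?_
      · split <;> [exact qm_lt hr (get_lt T i); exact hr]
      · split <;> [exact qm_lt hr' (get_lt R i); exact hr']
      · split
        · rw [K.f_mul r hr _ (get_lt T i), map_mul, e, h i (hL i List.mem_cons_self),
            K.f_mul r' hr' _ (get_lt R i)]
        · exact e
  obtain ⟨h1, h2, h3⟩ := key [0, 1, 2, 3, 4, 5] (by decide) 0 0 (by omega) (by omega)
    (by rw [K.f_zero, map_one])
  unfold ap
  have h6 : c &&& 64 = b64 (c.testBit 6) := by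
    have := Nat.and_two_pow c 6
    cases hb : c.testBit 6 <;> simp [hb, b64] at this ⊢ <;> exact this
  rw [h6, K.f_flip h1, K.f_flip h2, map_mul, h3]
  cases c.testBit 6 <;> simp [tp, hz]

/-- The code of an element. -/
noncomputable def code (x : C) : ℕ := by
  classical exact if h : x ∈ Q then Classical.choose (K.f_surj x h) else 0

theorem code_lt (x : C) : K.code x < 128 := by
  classical
  unfold code
  split
  · exact (Classical.choose_spec (K.f_surj x ‹_›)).1
  · omega

theorem f_code {x : C} (h : x ∈ Q) : K.f (K.code x) = x := by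
  classical
  rw [code, dif_pos h]
  exact (Classical.choose_spec (K.f_surj x h)).2

/-- The images of the unit vectors. -/
noncomputable def T (c : C) : ℕ := pack fun i => K.code (c * K.f (1 <<< i) * c⁻¹)

theorem shift_lt {i : ℕ} (hi : i < 6) : 1 <<< i < 128 := by interval_cases i <;> decide

theorem f_get_T (c : C) {i : ℕ} (hi : i < 6) :
    K.f (get (K.T c) i) = c * K.f (1 <<< i) * c⁻¹ := by
  rw [T, get_pack (fun _ _ => K.code_lt _) hi, K.f_code (K.ext.conj_mem c (K.f_mem _ (shift_lt hi)))]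

/-- Conjugation follows the images. -/
theorem conj_f (c : C) {n : ℕ} (hn : n < 128) : c * K.f n * c⁻¹ = K.f (ap (K.T c) n) := by
  have h := K.map_ap (D := (MulAut.conj c).toMonoidHom) (T := one) (R := K.T c) ?_ ?_ n
  · rw [one_ap n hn] at h
    simpa using h
  · simp [← K.ext.comm_z c]
  · intro i hi
    rw [get_one hi, K.f_get_T c hi]
    simp

theorem T_ext {c : C} {g : ℕ → ℕ} (hg : ∀ i < 6, g i < 128)
    (h : ∀ i < 6, c * K.f (1 <<< i) * c⁻¹ = K.f (g i)) : K.T c = pack g :=
  pack_congr fun i hi => K.f_inj _ (K.code_lt _) _ (hg i hi)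
    ((K.f_code (K.ext.conj_mem c (K.f_mem _ (shift_lt hi)))).trans (h i hi))

theorem T_mul (c d : C) : K.T (c * d) = cmp (K.T c) (K.T d) := by
  refine K.T_ext (fun _ _ => ap_lt _ _) fun i hi => ?_
  rw [← K.conj_f c (get_lt _ _), K.f_get_T d hi]
  group

theorem T_one : K.T 1 = one :=
  K.T_ext (fun _ h => shift_lt h) fun i _ => by simp

theorem T_z : K.T z = one :=
  K.T_ext (fun _ h => shift_lt h) fun i _ => by rw [K.ext.comm_z, mul_inv_cancel_right]

theorem T_tp (b : Bool) (c : C) : K.T (tp z b * c) = K.T c := by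
  cases b
  · simp [tp]
  · refine K.T_ext (fun _ _ => K.code_lt _) fun i hi => ?_
    rw [K.f_code (K.ext.conj_mem c (K.f_mem _ (shift_lt hi)))]
    simp only [tp, if_true]
    rw [show z * c * K.f (1 <<< i) * (z * c)⁻¹ = z * (c * K.f (1 <<< i) * c⁻¹) * z⁻¹ by group,
      K.ext.comm_z, mul_inv_cancel_right]

theorem T_inn {n : ℕ} (hn : n < 128) : K.T (K.f n) = inn n := by
  refine K.T_ext (fun i hi => Nat.xor_lt_two_pow (n := 7) (shift_lt hi) (b64_lt _)) fun i hi => ?_
  rw [K.f_flip (shift_lt hi), K.ext.kap_spec (K.f_mem n hn) (K.f_mem _ (shift_lt hi)),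
    K.kap_f hn (shift_lt hi)]
  group

theorem inn_and63 {n : ℕ} (hn : n < 128) : inn n = inn (n &&& 63) :=
  beq_iff_eq.1 (List.all_eq_true.1 inn_and63_all n (List.mem_range.2 hn))

/-- Equal actions differ by the centre. -/
theorem eq_of_T_eq {c d : C} (h : K.T c = K.T d) : d = c ∨ d = z * c := by
  have hc : ∀ x ∈ Q, c⁻¹ * d * x = x * (c⁻¹ * d) := by
    intro x hx
    obtain ⟨n, hn, rfl⟩ := K.f_surj x hx
    have e : c * K.f n * c⁻¹ = d * K.f n * d⁻¹ := by rw [K.conj_f c hn, K.conj_f d hn, h]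
    calc c⁻¹ * d * K.f n = c⁻¹ * (d * K.f n * d⁻¹) * d := by group
      _ = c⁻¹ * (c * K.f n * c⁻¹) * d := by rw [e]
      _ = _ := by group
  rcases K.ext.cent _ hc with e | e
  · exact Or.inl (inv_mul_eq_one.1 e).symm
  · right
    calc d = c * (c⁻¹ * d) := by group
      _ = _ := by rw [e, K.ext.comm_z]

theorem eq_tp_of_T_eq {c d : C} (h : K.T c = K.T d) : ∃ b, d = tp z b * c := by
  rcases K.eq_of_T_eq h with e | e
  · exact ⟨false, by simp [tp, e]⟩
  · exact ⟨true, by simp [tp, e]⟩

/-- The action modulo the centre. -/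
noncomputable def MM (c : C) : ℕ := mproj (K.T c)

theorem MM_mul (c d : C) : K.MM (c * d) = mcmp (K.MM c) (K.MM d) := by
  rw [MM, K.T_mul, mproj_cmp]; rfl

theorem MM_mem {q : C} (hq : q ∈ Q) : K.MM q = one := by
  obtain ⟨n, hn, rfl⟩ := K.f_surj q hq
  rw [MM, K.T_inn hn]
  refine pack_congr fun i hi => ?_
  rw [inn, get_pack (fun j hj => Nat.xor_lt_two_pow (n := 7) (shift_lt hj) (b64_lt _)) hi,
    Nat.and_xor_distrib_right]
  interval_cases i <;> cases bf n _ <;> rfl

theorem orth_T (c : C) : orth (K.T c) = true := by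
  refine List.all_eq_true.2 fun i hi => ?_
  have hi := List.mem_range.1 hi
  simp only [Bool.and_eq_true, Bool.not_eq_true', List.all_eq_true, List.mem_range, beq_iff_eq]
  refine ⟨?_, fun j hj => ?_⟩
  · have h1 : K.f (1 <<< i) * K.f (1 <<< i) = 1 := by
      rw [← K.f_mul _ (shift_lt hi) _ (shift_lt hi), ← K.f_zero]
      congr 1
      interval_cases i <;> rfl
    have h2 : K.f (qm (get (K.T c) i) (get (K.T c) i)) = K.f 0 := by
      rw [K.f_mul _ (get_lt _ _) _ (get_lt _ _), K.f_get_T c hi, K.f_zero]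
      calc c * K.f (1 <<< i) * c⁻¹ * (c * K.f (1 <<< i) * c⁻¹) =
          c * (K.f (1 <<< i) * K.f (1 <<< i)) * c⁻¹ := by group
        _ = 1 := by rw [h1]; group
    have h3 := K.f_inj _ (qm_lt (get_lt _ _) (get_lt _ _)) _ (by omega) h2
    rw [qm, Nat.xor_self, Nat.zero_xor] at h3
    cases hb : beta (get (K.T c) i) (get (K.T c) i)
    · rfl
    · rw [hb] at h3; exact absurd h3 (by decide)
  · rw [← K.kap_f (get_lt _ _) (get_lt _ _), K.f_get_T c hi, K.f_get_T c (hj.trans hi),
      K.ext.kap_conj, K.kap_f (shift_lt hi) (shift_lt (hj.trans hi))]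

end Chart

end CfsgLib.HeldMod
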