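import Mathlib

/-!
# Codes for the extraspecial group of order `2^7` and for its automorphisms

An element is a number below `128`: bits `0,1,2` and `3,4,5` are the coordinates on two dual
elementary abelian pieces and bit `6` is the central coordinate. An automorphism is the six images
of the unit vectors, packed seven bits each.
-/

set_option autoImplicit false

namespace CfsgLib.HeldMod

/-- Parity of the last three bits. -/
def par (v : ℕ) : Bool := (150 >>> (v &&& 7)).testBit 0

/-- The cocycle. -/
def beta (a b : ℕ) : Bool := par (b &&& (a >>> 3))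

/-- The central coordinate. -/
def b64 (b : Bool) : ℕ := if b then 64 else 0

/-- The product of codes. -/
def qm (a b : ℕ) : ℕ := a ^^^ b ^^^ b64 (beta a b)

/-- The commutator form. -/
def bf (a b : ℕ) : Bool := Bool.xor (beta a b) (beta b a)

/-- Seven bit entry. -/
def get (T i : ℕ) : ℕ := (T >>> (7 * i)) &&& 127

/-- Packing six entries. -/
def pack (g : ℕ → ℕ) : ℕ :=
  g 0 + 128 * (g 1 + 128 * (g 2 + 128 * (g 3 + 128 * (g 4 + 128 * g 5))))

/-- The element with images `T` applied to a code. -/
def ap (T c : ℕ) : ℕ :=
  ([0, 1, 2, 3, 4, 5].foldl (fun r i => if c.testBit i then qm r (get T i) else r) 0) ^^^ (c &&& 64)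

/-- The action on the quotient by the centre. -/
def lap (T c : ℕ) : ℕ :=
  [0, 1, 2, 3, 4, 5].foldl (fun r i => if c.testBit i then r ^^^ (get T i &&& 63) else r) 0

/-- Composition. -/
def cmp (T R : ℕ) : ℕ := pack fun i => ap T (get R i)

/-- Composition on the quotient. -/
def mcmp (T R : ℕ) : ℕ := pack fun i => lap T (get R i)

/-- The images modulo the centre. -/
def mproj (T : ℕ) : ℕ := pack fun i => get T i &&& 63

/-- The identity. -/
def one : ℕ := pack fun i => 1 <<< i

/-- An inner automorphism. -/
def inn (n : ℕ) : ℕ := pack fun i => (1 <<< i) ^^^ b64 (bf n (1 <<< i))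

/-- The images are distinct unit vectors up to the forms. -/
def orth (T : ℕ) : Bool :=
  (List.range 6).all fun i => !(beta (get T i) (get T i)) &&
    ((List.range i).all fun j => bf (get T i) (get T j) == bf (1 <<< i) (1 <<< j))

theorem pack_congr {g g' : ℕ → ℕ} (h : ∀ i < 6, g i = g' i) : pack g = pack g' := by
  simp only [pack, h 0 (by omega), h 1 (by omega), h 2 (by omega), h 3 (by omega), h 4 (by omega),
    h 5 (by omega)]

theorem get_eq (T i : ℕ) : get T i = T / 2 ^ (7 * i) % 128 := by
  rw [get, Nat.shiftRight_eq_div_pow]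
  exact Nat.and_two_pow_sub_one_eq_mod _ 7

theorem get_pack {g : ℕ → ℕ} (h : ∀ i < 6, g i < 128) {i : ℕ} (hi : i < 6) :
    get (pack g) i = g i := by
  have := h 0 (by omega); have := h 1 (by omega); have := h 2 (by omega)
  have := h 3 (by omega); have := h 4 (by omega); have := h 5 (by omega)
  rw [get_eq, pack]
  interval_cases i <;> norm_num <;> omega

theorem get_lt (T i : ℕ) : get T i < 128 := by rw [get_eq]; omega

theorem pack_get {g : ℕ → ℕ} (h : ∀ i < 6, g i < 128) : pack (get (pack g)) = pack g :=
  pack_congr fun _ hi => get_pack h hi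

theorem b64_lt (b : Bool) : b64 b < 128 := by cases b <;> simp [b64]

theorem qm_lt {a b : ℕ} (ha : a < 128) (hb : b < 128) : qm a b < 128 :=
  Nat.xor_lt_two_pow (n := 7) (Nat.xor_lt_two_pow (n := 7) ha hb) (b64_lt _)

theorem and64_lt (c : ℕ) : c &&& 64 < 128 := lt_of_le_of_lt Nat.and_le_right (by omega)

theorem ap_lt (T c : ℕ) : ap T c < 128 := by
  refine Nat.xor_lt_two_pow (n := 7) ?_ (and64_lt c)
  have : ∀ (L : List ℕ) (r : ℕ), r < 128 →
      L.foldl (fun r i => if c.testBit i then qm r (get T i) else r) r < 128 := by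
    intro L
    induction L with
    | nil => exact fun r hr => hr
    | cons i L ih =>
      intro r hr
      refine ih _ ?_
      dsimp only
      split
      · exact qm_lt hr (get_lt T i)
      · exact hr
  exact this _ 0 (by omega)

theorem lap_lt (T c : ℕ) : lap T c < 64 := by
  have : ∀ (L : List ℕ) (r : ℕ), r < 64 →
      L.foldl (fun r i => if c.testBit i then r ^^^ (get T i &&& 63) else r) r < 64 := by
    intro L
    induction L with
    | nil => exact fun r hr => hr
    | cons i L ih =>
      intro r hr
      refine ih _ ?_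
      dsimp only
      split
      · exact Nat.xor_lt_two_pow (n := 6) hr (lt_of_le_of_lt Nat.and_le_right (by omega))
      · exact hr
  exact this _ 0 (by omega)

theorem get_cmp (T R : ℕ) {i : ℕ} (hi : i < 6) : get (cmp T R) i = ap T (get R i) :=
  get_pack (fun _ _ => ap_lt _ _) hi

theorem get_mcmp (T R : ℕ) {i : ℕ} (hi : i < 6) : get (mcmp T R) i = lap T (get R i) :=
  get_pack (fun _ _ => (lap_lt _ _).trans (by omega)) hi

theorem get_mproj (T : ℕ) {i : ℕ} (hi : i < 6) : get (mproj T) i = get T i &&& 63 :=
  get_pack (g := fun i => get T i &&& 63)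
    (fun _ _ => lt_of_le_of_lt Nat.and_le_right (by omega)) hi

theorem get_one {i : ℕ} (hi : i < 6) : get one i = 1 <<< i := by
  interval_cases i <;> rfl

theorem qm_and63 (a b : ℕ) : qm a b &&& 63 = (a &&& 63) ^^^ (b &&& 63) := by
  rw [qm, Nat.and_xor_distrib_right, Nat.and_xor_distrib_right]
  cases beta a b <;> simp [b64]

theorem lap_eq (T c : ℕ) : ap T c &&& 63 = lap (mproj T) (c &&& 63) := by
  rw [ap, Nat.and_xor_distrib_right, Nat.and_assoc, show (64 : ℕ) &&& 63 = 0 from rfl, Nat.and_zero,
    Nat.xor_zero]
  have : ∀ (L : List ℕ), (∀ i ∈ L, i < 6) → ∀ r : ℕ,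
      (L.foldl (fun r i => if c.testBit i then qm r (get T i) else r) r) &&& 63 =
        L.foldl (fun r i => if (c &&& 63).testBit i then r ^^^ (get (mproj T) i &&& 63) else r)
          (r &&& 63) := by
    intro L
    induction L with
    | nil => exact fun _ r => rfl
    | cons i L ih =>
      intro hL r
      have hi := hL i List.mem_cons_self
      rw [List.foldl_cons, List.foldl_cons, ih (fun j hj => hL j (List.mem_cons_of_mem _ hj))]
      congr 1
      have hb : (c &&& 63).testBit i = c.testBit i := by
        rw [Nat.testBit_and]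
        interval_cases i <;> simp [Nat.testBit]
      rw [hb, get_mproj T hi, Nat.and_assoc, Nat.and_self]
      split
      · rw [qm_and63]
      · rfl
  exact this [0, 1, 2, 3, 4, 5] (by decide) 0

theorem mproj_cmp (T R : ℕ) : mproj (cmp T R) = mcmp (mproj T) (mproj R) := by
  refine pack_congr fun i hi => ?_
  show get (cmp T R) i &&& 63 = lap (mproj T) (get (mproj R) i)
  rw [get_cmp T R hi, lap_eq, get_mproj R hi]

end CfsgLib.HeldMod
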