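import Cfsg.Agent.HeldU.Module.Action

/-!
# An element of order seven gives adapted codes
-/

set_option autoImplicit false
set_option linter.unusedSectionVars false
set_option maxHeartbeats 1000000

namespace CfsgLib.HeldMod

/-- Recurrence of length three over two elements. -/
def lam (x y w : Bool) : ℕ → Bool
  | 0 => x
  | 1 => y
  | 2 => w
  | n + 3 => Bool.xor (lam x y w (n + 1)) (lam x y w n)

theorem lam_shift : ∀ x y w : Bool, x = true → ∃ k < 7, lam x y w (7 - k) = true ∧
    lam x y w (8 - k) = false ∧ lam x y w (9 - k) = false := by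
  decide +kernel

theorem adjust_all : ((List.range 64).all fun e => (List.range 128).any fun n =>
    cmp (inn n) (pack fun i => get cS i ^^^ b64 (e.testBit i)) == cS) = true := by
  decide +kernel

theorem adjust {c : ℕ → Bool} : ∃ n < 128, cmp (inn n) (pack fun i => get cS i ^^^ b64 (c i)) = cS := by
  have hlt : ∀ a b d e f g : Bool,
      let m := a.toNat + 2 * b.toNat + 4 * d.toNat + 8 * e.toNat + 16 * f.toNat + 32 * g.toNat
      (decide (m < 64) && (m.testBit 0 == a) && (m.testBit 1 == b) && (m.testBit 2 == d) &&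
        (m.testBit 3 == e) && (m.testBit 4 == f) && (m.testBit 5 == g)) = true := by
    decide +kernel
  have hm' := hlt (c 0) (c 1) (c 2) (c 3) (c 4) (c 5)
  simp only [Bool.and_eq_true, decide_eq_true_eq, beq_iff_eq] at hm'
  obtain ⟨⟨⟨⟨⟨⟨hm, h0⟩, h1⟩, h2⟩, h3⟩, h4⟩, h5⟩ := hm'
  generalize (c 0).toNat + 2 * (c 1).toNat + 4 * (c 2).toNat + 8 * (c 3).toNat + 16 * (c 4).toNat +
    32 * (c 5).toNat = m at hm h0 h1 h2 h3 h4 h5
  obtain ⟨n, hn, h⟩ := List.any_eq_true.1
    (List.all_eq_true.1 adjust_all m (List.mem_range.2 hm))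
  refine ⟨n, List.mem_range.1 hn, ?_⟩
  refine Eq.trans ?_ (beq_iff_eq.1 h)
  congr 1
  exact pack_congr fun i hi => by interval_cases i <;> simp only [h0, h1, h2, h3, h4, h5]

variable {C : Type*} [Group C] {z : C} {Q : Subgroup C}

/-- In an elementary abelian group an operator of order seven has a vector with a cubic relation. -/
theorem cubic_dichotomy {D : Type*} [CommGroup D] (hD : ∀ v : D, v * v = 1) (F : D → D)
    (hF : ∀ v w, F (v * w) = F v * F w) (hF7 : ∀ v, F (F (F (F (F (F (F v)))))) = v) {v : D}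
    (hv : F v ≠ v) :
    ∃ y : D, y ≠ 1 ∧ (F (F (F y)) = F y * y ∨ F (F (F y)) = F (F y) * y) := by
  have cancel : ∀ v w : D, v * (v * w) = w := fun v w => by rw [← mul_assoc, hD, one_mul]
  by_contra h
  push Not at h
  refine hv ?_
  have e4 : ∀ a b c d : D, F (F (F (a * (b * (c * d))))) =
      F (F (F a)) * (F (F (F b)) * (F (F (F c)) * F (F (F d)))) := fun a b c d => by simp only [hF]
  have h1 : F (F (F (F v))) * (F (F v) * (F v * v)) = 1 := by
    by_contra hy
    refine (h _ hy).1 ?_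
    rw [e4, hF7]
    simp only [hF]
    generalize F (F (F (F (F (F v))))) = v6
    generalize F (F (F (F (F v)))) = v5
    generalize F (F (F (F v))) = v4
    generalize F (F (F v)) = v3
    generalize F (F v) = v2
    generalize F v = v1
    simp [mul_comm, mul_left_comm, cancel, hD]
  have h2 : F (F (F (F v))) * (F (F (F v)) * (F (F v) * v)) = 1 := by
    by_contra hy
    refine (h _ hy).2 ?_
    rw [e4, hF7]
    simp only [hF]
    generalize F (F (F (F (F (F v))))) = v6
    generalize F (F (F (F (F v)))) = v5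
    generalize F (F (F (F v))) = v4
    generalize F (F (F v)) = v3
    generalize F (F v) = v2
    generalize F v = v1
    simp [mul_comm, mul_left_comm, cancel, hD]
  have h3 : F v * F (F (F v)) = 1 := by
    have := congrArg₂ (· * ·) h1 h2
    generalize F (F (F (F v))) = v4 at this ⊢
    generalize F (F (F v)) = v3 at this ⊢
    generalize F (F v) = v2 at this ⊢
    generalize F v = v1 at this ⊢
    simpa [mul_comm, mul_left_comm, cancel, hD] using this
  have h4 : F (F (F v)) = F v := by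
    have := congrArg (F v * ·) h3
    simpa [cancel] using this
  have h5 : F (F v) = v := by
    have := congrArg (fun w => F (F (F (F (F (F w)))))) h4
    simp only [hF7] at this
    exact this
  have := hF7 v
  simp only [h5] at this
  exact this

theorem cubic_sum {D : Type*} [CommGroup D] (hD : ∀ v : D, v * v = 1) (u0 u1 u2 u3 u5 u6 : D) :
    u3 * u6 * (u1 * u2) = u2 * u5 * (u0 * u1) * (u0 * u3 * (u5 * u6)) := by
  have cancel : ∀ v w : D, v * (v * w) = w := fun v w => by rw [← mul_assoc, hD, one_mul]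
  simp [mul_comm, mul_left_comm, cancel]

/-- Equality up to the centre. -/
def Eqv (z : C) (x y : C) : Prop := ∃ b, x = tp z b * y

namespace Ext

variable (E : Ext z Q)

include E

theorem kap_eqv {x x' y y' : C} (hx : Eqv z x x') (hy : Eqv z y y') (mx : x' ∈ Q) (my : y' ∈ Q) :
    kap x y = kap x' y' := by
  obtain ⟨a, rfl⟩ := hx
  obtain ⟨b, rfl⟩ := hy
  rw [E.kap_mul (E.tp_mem a) mx (mul_mem (E.tp_mem b) my), E.kap_tp,
    E.kap_mul_right mx (E.tp_mem b) my, E.kap_symm x' (tp z b), E.kap_tp]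
  simp

theorem sq_eqv {x y : C} (h : Eqv z x y) : x * x = y * y := by
  obtain ⟨a, rfl⟩ := h
  calc tp z a * y * (tp z a * y) = tp z a * (y * tp z a) * y := by group
    _ = tp z a * (tp z a * y) * y := by rw [E.tp_comm a y]
    _ = _ := by rw [← mul_assoc (tp z a) (tp z a), E.tp_self]; group

theorem sq_conj {c x : C} (hx : x ∈ Q) : c * x * c⁻¹ * (c * x * c⁻¹) = x * x := by
  rw [show c * x * c⁻¹ * (c * x * c⁻¹) = c * (x * x) * c⁻¹ by group]
  rcases E.sq x hx with e | e <;> rw [e]
  · group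
  · rw [← E.comm_z c, mul_inv_cancel_right]

theorem sq_mul {x y : C} (hx : x ∈ Q) (hy : y ∈ Q) :
    x * y * (x * y) = tp z (kap x y) * (x * x * (y * y)) := by
  rw [E.kap_symm x y]
  calc x * y * (x * y) = x * (y * x) * y := by group
    _ = x * (tp z (kap y x) * (x * y)) * y := by rw [← E.kap_spec hy hx]
    _ = x * tp z (kap y x) * (x * (y * y)) := by group
    _ = _ := by rw [← E.tp_comm]; group

/-- Conjugation by an element of the subgroup is trivial up to the centre. -/
theorem inner_eqv {q x : C} (hq : q ∈ Q) (hx : x ∈ Q) : Eqv z (q * x * q⁻¹) x :=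
  ⟨kap q x, by rw [E.kap_spec hq hx]; group⟩

theorem mem_of_trivial {s : C} (h7 : s ^ 7 ∈ Q) (h : ∀ x ∈ Q, Eqv z (s * x * s⁻¹) x) : s ∈ Q := by
  have h2 : s * s ∈ Q := by
    have e : s * s = 1 ∨ s * s = z := E.cent (s * s) fun x hx => by
      obtain ⟨b, hb⟩ := h x hx
      have : s * s * x * (s * s)⁻¹ = x := by
        calc s * s * x * (s * s)⁻¹ = s * (s * x * s⁻¹) * s⁻¹ := by group
          _ = s * tp z b * x * s⁻¹ := by rw [hb]; group
          _ = tp z b * (s * x * s⁻¹) := by rw [← E.tp_comm]; group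
          _ = _ := by rw [hb, ← mul_assoc, E.tp_self, one_mul]
      exact mul_inv_eq_iff_eq_mul.1 this
    rcases e with e | e <;> rw [e]
    · exact one_mem _
    · exact E.mem_z
  have : s = s ^ 7 * ((s * s)⁻¹ * (s * s)⁻¹ * (s * s)⁻¹) := by group
  rw [this]
  exact mul_mem h7 (mul_mem (mul_mem (inv_mem h2) (inv_mem h2)) (inv_mem h2))

/-- Some noncentral element satisfies one of the two cubic relations. -/
theorem exists_cubic {s : C} (h7 : s ^ 7 ∈ Q) (hs : s ∉ Q) :
    ∃ y ∈ Q, y ≠ 1 ∧ y ≠ z ∧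
      (Eqv z (s ^ 3 * y * (s ^ 3)⁻¹) (s * y * s⁻¹ * y) ∨
        Eqv z ((s⁻¹) ^ 3 * y * ((s⁻¹) ^ 3)⁻¹) (s⁻¹ * y * (s⁻¹)⁻¹ * y)) := by
  classical
  haveI hZn : (Subgroup.zpowers z).Normal := ⟨fun x hx g => by
    obtain ⟨k, rfl⟩ := Subgroup.mem_zpowers_iff.1 hx
    rw [((show Commute z g from E.comm_z g).zpow_left k).eq.symm, mul_inv_cancel_right]
    exact Subgroup.zpow_mem_zpowers z k⟩
  set π := QuotientGroup.mk' (Subgroup.zpowers z)
  have hzp : ∀ x ∈ Subgroup.zpowers z, ∃ b, x = tp z b := by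
    intro x hx
    obtain ⟨k, rfl⟩ := Subgroup.mem_zpowers_iff.1 hx
    have hzz : z ^ (2 : ℤ) = 1 := by rw [zpow_two, E.sq_z]
    rcases Int.even_or_odd k with ⟨j, rfl⟩ | ⟨j, rfl⟩
    · exact ⟨false, by rw [show j + j = 2 * j by ring, zpow_mul, hzz, one_zpow]; rfl⟩
    · exact ⟨true, by rw [zpow_add, zpow_mul, hzz, one_zpow, zpow_one, one_mul]; rfl⟩
  have hπ : ∀ x y, π x = π y ↔ Eqv z x y := by
    intro x y
    constructor
    · intro h
      obtain ⟨b, hb⟩ := hzp _ (QuotientGroup.eq.1 h.symm)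
      refine ⟨b, ?_⟩
      rw [E.tp_comm, ← hb]; group
    · rintro ⟨b, rfl⟩
      have : π (tp z b) = 1 := (QuotientGroup.eq_one_iff _).2 (by cases b <;> simp [tp, Subgroup.mem_zpowers])
      simp [this]
  set D := Q.map π
  have hD : ∀ v : D, v * v = 1 := by
    rintro ⟨_, x, hx, rfl⟩
    refine Subtype.ext ?_
    show π x * π x = 1
    rw [← map_mul, ← map_one π, hπ]
    rcases E.sq x hx with e | e
    · exact ⟨false, by simp [tp, e]⟩
    · exact ⟨true, by simp [tp, e]⟩
  have hcomm : ∀ v w : D, v * w = w * v := by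
    intro v w
    have h := hD (v * w)
    calc v * w = v * (v * w * (v * w)) * w := by rw [h, mul_one]
      _ = (v * v) * (w * v) * (w * w) := by group
      _ = w * v := by rw [hD, hD, one_mul, mul_one]
  letI : CommGroup D := { (inferInstance : Group D) with mul_comm := hcomm }
  let F : D → D := fun v => ⟨π s * v.1 * (π s)⁻¹, by
    obtain ⟨x, hx, e⟩ := v.2
    exact ⟨s * x * s⁻¹, E.conj_mem s hx, by rw [← e]; simp [π]⟩⟩
  have hF : ∀ v w, F (v * w) = F v * F w := fun v w => Subtype.ext (by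
    show π s * (v.1 * w.1) * (π s)⁻¹ = π s * v.1 * (π s)⁻¹ * (π s * w.1 * (π s)⁻¹)
    group)
  have hF1 : F 1 = 1 := Subtype.ext (by simp [F])
  have cancel : ∀ v w : D, v * (v * w) = w := fun v w => by rw [← mul_assoc, hD, one_mul]
  have hF7 : ∀ v, F (F (F (F (F (F (F v)))))) = v := by
    rintro ⟨_, x, hx, rfl⟩
    refine Subtype.ext ?_
    show _ = π x
    have e : π (s ^ 7 * x * (s ^ 7)⁻¹) = π x := (hπ _ _).2 (E.inner_eqv h7 hx)
    refine Eq.trans ?_ e
    simp only [F, map_mul, map_inv, map_pow]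
    simp only [pow_succ, pow_zero, one_mul, mul_inv_rev, inv_inv, mul_assoc]
  have hne : ∃ v, F v ≠ v := by
    by_contra h
    push Not at h
    refine hs (E.mem_of_trivial h7 fun x hx => (hπ _ _).1 ?_)
    have := congrArg Subtype.val (h ⟨π x, x, hx, rfl⟩)
    simpa [F] using this
  have key : ∃ y : D, y ≠ 1 ∧ (F (F (F y)) = F y * y ∨ F (F (F y)) = F (F y) * y) :=
    cubic_dichotomy hD F hF hF7 hne.choose_spec
  obtain ⟨⟨_, x, hx, rfl⟩, hy1, hy⟩ := key
  refine ⟨x, hx, fun e => hy1 (Subtype.ext (by simp [e])), fun e => hy1 (Subtype.ext ?_), ?_⟩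
  · show π x = 1
    rw [← map_one π, hπ]
    exact ⟨true, by simp [tp, e]⟩
  rcases hy with h | h
  · left
    refine (hπ _ _).1 ?_
    have := congrArg Subtype.val h
    simp only [F, Subgroup.coe_mul] at this
    simp only [map_mul, map_inv, map_pow]
    rw [← this]
    simp only [pow_succ, pow_zero, one_mul, mul_inv_rev, inv_inv, mul_assoc]
  · right
    have h' := congrArg (fun w => F (F (F (F w)))) h
    simp only [hF, hF7] at h'
    have hG : F (F (F (F ⟨π x, x, hx, rfl⟩))) =
        F (F (F (F (F (F ⟨π x, x, hx, rfl⟩))))) * ⟨π x, x, hx, rfl⟩ := by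
      have := congrArg (F (F (F (F (F (F ⟨π x, x, hx, rfl⟩))))) * ·) h'
      simp only [cancel] at this
      exact this.symm
    refine (hπ _ _).1 ?_
    have e := congrArg Subtype.val hG
    simp only [F, Subgroup.coe_mul] at e
    have c7 : ∀ w ∈ Q, π (s ^ 7) * π w * (π (s ^ 7))⁻¹ = π w := fun w hw => by
      rw [← map_inv, ← map_mul, ← map_mul, hπ]; exact E.inner_eqv h7 hw
    calc π ((s⁻¹) ^ 3 * x * ((s⁻¹) ^ 3)⁻¹)
        = π (s ^ 7) * π ((s⁻¹) ^ 3 * x * ((s⁻¹) ^ 3)⁻¹) * (π (s ^ 7))⁻¹ :=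
          (c7 _ (E.conj_mem _ hx)).symm
      _ = π s * (π s * (π s * (π s * π x * (π s)⁻¹) * (π s)⁻¹) * (π s)⁻¹) * (π s)⁻¹ := by
          simp only [map_mul, map_inv, map_pow, pow_succ, pow_zero, one_mul, mul_inv_rev, inv_inv,
            mul_assoc, inv_mul_cancel_left, mul_inv_cancel_left, inv_mul_cancel, mul_inv_cancel, mul_one]
      _ = _ := e
      _ = π (s ^ 7) * π (s⁻¹ * x * (s⁻¹)⁻¹) * (π (s ^ 7))⁻¹ * π x := by
          simp only [map_mul, map_inv, map_pow, pow_succ, pow_zero, one_mul, mul_inv_rev, inv_inv,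
            mul_assoc, inv_mul_cancel_left, mul_inv_cancel_left, inv_mul_cancel, mul_inv_cancel, mul_one]
      _ = π (s⁻¹ * x * (s⁻¹)⁻¹) * π x := by rw [c7 _ (E.conj_mem _ hx)]
      _ = _ := by rw [← map_mul]

end Ext

/-- Iterated conjugation. -/
def itc (s : C) (k : ℕ) (x : C) : C := s ^ k * x * (s ^ k)⁻¹

/-- Adapted codes from a cubic relation. -/
theorem chart_of_cubic (E : Ext z Q) {s y : C} (h7 : s ^ 7 ∈ Q) (hy : y ∈ Q) (hy1 : y ≠ 1)
    (hyz : y ≠ z) (hrel : Eqv z (s ^ 3 * y * (s ^ 3)⁻¹) (s * y * s⁻¹ * y)) :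
    ∃ K : Chart z Q, ∃ n < 128, K.T (K.f n * s) = cS := by
  set it : ℕ → C → C := itc s with hit
  have itm : ∀ k {x}, x ∈ Q → it k x ∈ Q := fun k x hx => E.conj_mem _ hx
  have it_add : ∀ j k x, it j (it k x) = it (j + k) x := fun j k x => by
    simp only [hit, itc, pow_add]; group
  have it0 : ∀ x, it 0 x = x := fun x => by simp [hit, itc]
  have itk : ∀ k x y, kap (it k x) (it k y) = kap x y := fun k => E.kap_conj _
  have it7 : ∀ k {x}, x ∈ Q → Eqv z (it (k + 7) x) (it k x) := by
    intro k x hx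
    rw [Nat.add_comm, ← it_add 7 k]
    exact E.inner_eqv h7 (itm k hx)
  have it_eqv : ∀ k {x x'}, Eqv z x x' → Eqv z (it k x) (it k x') := by
    rintro k x x' ⟨b, rfl⟩
    refine ⟨b, ?_⟩
    show s ^ k * (tp z b * x') * (s ^ k)⁻¹ = tp z b * (s ^ k * x' * (s ^ k)⁻¹)
    rw [← mul_assoc, ← E.tp_comm]; group
  have it_mul : ∀ k x x', it k (x * x') = it k x * it k x' := fun k x x' => by simp only [hit, itc]; group
  have itsq : ∀ k {x}, x ∈ Q → it k x * it k x = x * x := fun k x hx => E.sq_conj hx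
  have refl' : ∀ x, Eqv z x x := fun x => ⟨false, by simp [tp]⟩
  have rel : ∀ k, Eqv z (it (k + 3) y) (it (k + 1) y * it k y) := by
    intro k
    rw [← it_add k 3, ← it_add k 1, ← it_mul]
    refine it_eqv k ?_
    simpa [hit, itc] using hrel
  -- forms against the orbit of `y`
  have krec : ∀ d ∈ Q, ∀ k, kap d (it (k + 3) y) = Bool.xor (kap d (it (k + 1) y)) (kap d (it k y)) := by
    intro d hd k
    rw [E.kap_eqv (refl' d) (rel k) hd (mul_mem (itm _ hy) (itm _ hy)),
      E.kap_mul_right hd (itm _ hy) (itm _ hy)]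
  have klam : ∀ d ∈ Q, ∀ k,
      kap d (it k y) = lam (kap d (it 0 y)) (kap d (it 1 y)) (kap d (it 2 y)) k := by
    intro d hd k
    induction k using Nat.strong_induction_on with
    | _ k ih =>
      match k with
      | 0 => rfl
      | 1 => rfl
      | 2 => rfl
      | n + 3 => rw [krec d hd n, ih (n + 1) (by omega), ih n (by omega)]; rfl
  -- the span of the orbit is totally singular
  have hc : kap y (it 1 y) = false ∧ kap y (it 2 y) = false := by
    have e : ∀ j k, j + k = 7 → kap y (it j y) = kap y (it k y) := by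
      intro j k h
      rw [← itk k y (it j y), it_add, E.kap_symm]
      refine (E.kap_eqv ?_ (refl' _) hy (itm k hy))
      rw [show k + j = 0 + 7 by omega]
      have := it7 0 hy
      rwa [it0] at this
    have e1 := e 1 6 rfl
    have e2 := e 2 5 rfl
    rw [klam y hy 6] at e1
    rw [klam y hy 5] at e2
    simp only [lam, it0, E.kap_self] at e1 e2
    revert e1 e2
    cases kap y (it 1 y) <;> cases kap y (it 2 y) <;> simp
  have ys : y * y = 1 := by
    have h3 : it 3 y * it 3 y = y * y := E.sq_conj hy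
    rw [E.sq_eqv (rel 0), E.sq_mul (itm 1 hy) (itm 0 hy), it0, E.kap_symm, hc.1, itsq 1 hy] at h3
    simp only [tp, Bool.false_eq_true, if_false, one_mul] at h3
    exact mul_eq_left.mp h3
  -- a dual element
  obtain ⟨d₀, hd₀, hd0⟩ : ∃ d ∈ Q, kap d y = true := by
    by_contra h
    push Not at h
    rcases E.cent y fun x hx => (E.kap_false_iff.1 (by simpa using h x hx)).symm with e | e
    · exact hy1 e
    · exact hyz e
  obtain ⟨k, hk7, l0, l1, l2⟩ := lam_shift (kap d₀ (it 0 y)) (kap d₀ (it 1 y)) (kap d₀ (it 2 y))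
    (by rw [it0]; exact hd0)
  obtain ⟨d, hd_def⟩ : ∃ d, d = it k d₀ := ⟨_, rfl⟩
  have hd : d ∈ Q := hd_def ▸ itm k hd₀
  have dval : ∀ i, kap d (it i y) = kap d₀ (it (i + 7 - k) y) := by
    intro i
    rw [← itk (7 - k) d (it i y), hd_def, it_add, it_add, show 7 - k + k = 0 + 7 by omega,
      show 7 - k + i = i + 7 - k by omega]
    refine E.kap_eqv ?_ (refl' _) hd₀ (itm _ hy)
    have := it7 0 hd₀
    rwa [it0] at this
  have hd_0 : kap d (it 0 y) = true := by rw [dval, klam d₀ hd₀]; simpa using l0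
  have hd_1 : kap d (it 1 y) = false := by rw [dval, klam d₀ hd₀, show 1 + 7 - k = 8 - k by omega, l1]
  have hd_2 : kap d (it 2 y) = false := by rw [dval, klam d₀ hd₀, show 2 + 7 - k = 9 - k by omega, l2]
  obtain ⟨b, hb_def⟩ : ∃ b, b = d * it 3 d * (it 5 d * it 6 d) := ⟨_, rfl⟩
  have hb : b ∈ Q := hb_def ▸ mul_mem (mul_mem hd (itm _ hd)) (mul_mem (itm _ hd) (itm _ hd))
  have dj : ∀ j i, j ≤ 7 → kap (it j d) (it i y) = kap d (it (i + 7 - j) y) := by
    intro j i hj
    rw [← itk (7 - j) (it j d) (it i y), it_add, it_add, show 7 - j + j = 0 + 7 by omega,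
      show 7 - j + i = i + 7 - j by omega]
    refine E.kap_eqv ?_ (refl' _) hd (itm _ hy)
    have := it7 0 hd
    rwa [it0] at this
  have bval : ∀ j ≤ 7, ∀ i, kap (it j b) (it i y) = lam true false false (i + (7 - j)) := by
    have b0 : ∀ i, kap b (it i y) = lam true false false i := by
      intro i
      rw [klam b hb i]
      have e : ∀ i, i < 3 → kap b (it i y) = lam true false false i := by
        intro i hi
        rw [hb_def, E.kap_mul (mul_mem hd (itm _ hd)) (mul_mem (itm _ hd) (itm _ hd)) (itm _ hy),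
          E.kap_mul hd (itm _ hd) (itm _ hy), E.kap_mul (itm _ hd) (itm _ hd) (itm _ hy),
          dj 3 i (by omega), dj 5 i (by omega), dj 6 i (by omega)]
        rw [klam d hd i, klam d hd (i + 7 - 3), klam d hd (i + 7 - 5), klam d hd (i + 7 - 6), hd_0, hd_1,
          hd_2]
        interval_cases i <;> rfl
      rw [e 0 (by omega), e 1 (by omega), e 2 (by omega)]
      rfl
    intro j hj i
    rw [← itk (7 - j) (it j b) (it i y), it_add, it_add, show 7 - j + j = 0 + 7 by omega,
      show 7 - j + i = i + (7 - j) by omega]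
    have h := it7 0 hb
    rw [it0] at h
    rw [E.kap_eqv h (refl' _) hb (itm _ hy), b0]
  have relb : Eqv z (it 3 b) (it 2 b * b) := by
    haveI hZn : (Subgroup.zpowers z).Normal := ⟨fun x hx g => by
      obtain ⟨k, rfl⟩ := Subgroup.mem_zpowers_iff.1 hx
      rw [((show Commute z g from E.comm_z g).zpow_left k).eq.symm, mul_inv_cancel_right]
      exact Subgroup.zpow_mem_zpowers z k⟩
    set π := QuotientGroup.mk' (Subgroup.zpowers z)
    have hπ1 : ∀ b, π (tp z b) = 1 := fun b =>
      (QuotientGroup.eq_one_iff _).2 (by cases b <;> simp [tp, Subgroup.mem_zpowers])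
    have he : ∀ {x x'}, Eqv z x x' → π x = π x' := by rintro x x' ⟨b, rfl⟩; simp [hπ1]
    have hc : ∀ {x x'}, x ∈ Q → x' ∈ Q → π x * π x' = π x' * π x := by
      intro x x' hx hx'
      rw [← map_mul, ← map_mul]
      exact he ⟨kap x x', E.kap_spec hx hx'⟩
    have hs : ∀ {x}, x ∈ Q → π x * π x = 1 := by
      intro x hx
      rcases E.sq x hx with e | e <;> rw [← map_mul, e]
      · exact map_one π
      · exact hπ1 true
    have P : π (it 3 b) = π (it 2 b * b) := by
      have e3 : π (it 3 b) = π (it 3 d) * π (it 6 d) * (π (it 1 d) * π (it 2 d)) := by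
        rw [hb_def]
        simp only [it_mul, it_add, map_mul]
        rw [he (it7 1 hd), he (it7 2 hd)]
      have e2 : π (it 2 b) = π (it 2 d) * π (it 5 d) * (π (it 0 d) * π (it 1 d)) := by
        rw [hb_def]
        simp only [it_mul, it_add, map_mul]
        rw [he (it7 0 hd), he (it7 1 hd)]
      have e0 : π b = π (it 0 d) * π (it 3 d) * (π (it 5 d) * π (it 6 d)) := by
        rw [hb_def, it0]; simp only [map_mul]
      rw [map_mul, e3, e2, e0]
      let D := Q.map π
      letI : CommGroup D := { (inferInstance : Group D) with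
        mul_comm := by
          rintro ⟨_, x, hx, rfl⟩ ⟨_, x', hx', rfl⟩
          exact Subtype.ext (hc hx hx') }
      have hv : ∀ v : D, v * v = 1 := by
        rintro ⟨_, x, hx, rfl⟩
        exact Subtype.ext (hs hx)
      let u : ℕ → D := fun i => ⟨π (it i d), it i d, itm i hd, rfl⟩
      have key := cubic_sum hv (u 0) (u 1) (u 2) (u 3) (u 5) (u 6)
      exact congrArg Subtype.val key
    obtain ⟨e, he'⟩ : ∃ e, (it 2 b * b)⁻¹ * it 3 b = tp z e := by
      obtain ⟨k, hk⟩ := Subgroup.mem_zpowers_iff.1 (QuotientGroup.eq.1 P.symm)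
      have hzz : z ^ (2 : ℤ) = 1 := by rw [zpow_two, E.sq_z]
      rcases Int.even_or_odd k with ⟨j, rfl⟩ | ⟨j, rfl⟩
      · exact ⟨false, by rw [← hk, show j + j = 2 * j by ring, zpow_mul, hzz, one_zpow]; rfl⟩
      · exact ⟨true, by rw [← hk, zpow_add, zpow_mul, hzz, one_zpow, zpow_one, one_mul]; rfl⟩
    exact ⟨e, by rw [E.tp_comm, ← he']; group⟩
  have relb' : ∀ k, Eqv z (it (k + 3) b) (it (k + 2) b * it k b) := by
    intro k
    rw [← it_add k 3, ← it_add k 2, ← it_mul]
    exact it_eqv k relb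
  have hcb : kap b (it 1 b) = false ∧ kap b (it 2 b) = false := by
    have r : ∀ k, kap b (it (k + 3) b) = Bool.xor (kap b (it (k + 2) b)) (kap b (it k b)) := fun k => by
      rw [E.kap_eqv (refl' b) (relb' k) hb (mul_mem (itm _ hb) (itm _ hb)),
        E.kap_mul_right hb (itm _ hb) (itm _ hb)]
    have e : ∀ j k, j + k = 7 → kap b (it j b) = kap b (it k b) := by
      intro j k h
      rw [← itk k b (it j b), it_add, E.kap_symm]
      refine (E.kap_eqv ?_ (refl' _) hb (itm k hb))
      rw [show k + j = 0 + 7 by omega]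
      have := it7 0 hb
      rwa [it0] at this
    have e1 := e 1 6 rfl
    have e2 := e 2 5 rfl
    rw [r 3, r 2, r 1, r 0, it0, E.kap_self] at e1
    rw [r 2, r 1, r 0, it0, E.kap_self] at e2
    revert e1 e2
    cases kap b (it 1 b) <;> cases kap b (it 2 b) <;> simp
  have bs : b * b = 1 := by
    have h3 : it 3 b * it 3 b = b * b := E.sq_conj hb
    rw [E.sq_eqv relb, E.sq_mul (itm 2 hb) hb, E.kap_symm, hcb.2, itsq 2 hb] at h3
    simp only [tp, Bool.false_eq_true, if_false, one_mul] at h3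
    exact mul_eq_left.mp h3
  have ysq : ∀ i, it i y * it i y = 1 := fun i => (E.sq_conj hy).trans ys
  have bsq : ∀ i, it i b * it i b = 1 := fun i => (E.sq_conj hb).trans bs
  have bb01 : kap b (it 1 b) = false := hcb.1
  have bb02 : kap b (it 2 b) = false := hcb.2
  have bb12 : kap (it 1 b) (it 2 b) = false := by
    rw [← it_add 1 1 b, itk]
    exact bb01
  have ka01 : kap (it 0 y) (it 1 y) = false := by rw [it0]; exact hc.1
  have ka02 : kap (it 0 y) (it 2 y) = false := by rw [it0]; exact hc.2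
  have ka12 : kap (it 1 y) (it 2 y) = false := by rw [← it_add 1 1 y, itk]; exact hc.1
  let B : Basis z Q :=
    { a := ![it 0 y, it 1 y, it 2 y]
      b := ![b, b * it 1 b, it 1 b * it 2 b]
      a_mem := fun i => by fin_cases i <;> exact itm _ hy
      b_mem := fun i => by
        fin_cases i
        · exact hb
        · exact mul_mem hb (itm _ hb)
        · exact mul_mem (itm _ hb) (itm _ hb)
      a_sq := fun i => by fin_cases i <;> exact ysq _
      b_sq := fun i => by
        fin_cases i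
        · exact bs
        · show b * it 1 b * (b * it 1 b) = 1
          rw [E.sq_mul hb (itm _ hb), bb01, bs, bsq]; simp [tp]
        · show it 1 b * it 2 b * (it 1 b * it 2 b) = 1
          rw [E.sq_mul (itm _ hb) (itm _ hb), bb12, bsq, bsq]; simp [tp]
      aa := fun i j => by
        fin_cases i <;> fin_cases j <;>
          simp [E.kap_self, ka01, ka02, ka12, E.kap_symm (it 1 y) (it 0 y), E.kap_symm (it 2 y) (it 0 y),
            E.kap_symm (it 2 y) (it 1 y)]
      bb := fun i j => by
        fin_cases i <;> fin_cases j <;>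
          simp [E.kap_self, E.kap_mul hb (itm 1 hb), E.kap_mul (itm 1 hb) (itm 2 hb),
            E.kap_mul_right, hb, itm 1 hb, itm 2 hb, mul_mem, bb01, bb02, bb12,
            E.kap_symm (it 1 b) b, E.kap_symm (it 2 b) b, E.kap_symm (it 2 b) (it 1 b)]
      ba := fun i j => by
        have e0 : ∀ i, kap b (it i y) = lam true false false (i + 7) := fun i => by
          have := bval 0 (by omega) i
          rwa [it0] at this
        fin_cases i <;> fin_cases j <;>
          simp [E.kap_mul hb (itm 1 hb), E.kap_mul (itm 1 hb) (itm 2 hb), itm _ hy, e0,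
            bval 1 (by omega), bval 2 (by omega), lam] }
  obtain ⟨K, hK⟩ := B.chart E
  have f1 : K.f (1 <<< 0) = it 0 y := by simp [hK, codeVal, B, pb, tp, Nat.testBit]
  have f2 : K.f (1 <<< 1) = it 1 y := by simp [hK, codeVal, B, pb, tp, Nat.testBit]
  have f4 : K.f (1 <<< 2) = it 2 y := by simp [hK, codeVal, B, pb, tp, Nat.testBit]
  have f8 : K.f (1 <<< 3) = b := by simp [hK, codeVal, B, pb, tp, Nat.testBit]
  have f16 : K.f (1 <<< 4) = b * it 1 b := by simp [hK, codeVal, B, pb, tp, Nat.testBit]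
  have f32 : K.f (1 <<< 5) = it 1 b * it 2 b := by simp [hK, codeVal, B, pb, tp, Nat.testBit]
  have g2 : K.f 2 = it 1 y := f2
  have g4 : K.f 4 = it 2 y := f4
  have g3 : K.f 3 = it 0 y * it 1 y := by
    rw [show (3 : ℕ) = qm 1 2 from rfl, K.f_mul 1 (by omega) 2 (by omega), g2]
    exact congrArg (· * _) f1
  have g24 : K.f 24 = b * (b * it 1 b) := by
    rw [show (24 : ℕ) = qm 8 16 from rfl, K.f_mul 8 (by omega) 16 (by omega)]
    exact congrArg₂ (· * ·) f8 f16
  have g32 : K.f 32 = it 1 b * it 2 b := f32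
  have g8 : K.f 8 = b := f8
  have step : ∀ x, s * x * s⁻¹ = it 1 x := fun x => by simp [hit, itc]
  have hv : ∀ i, i < 6 → ∃ e, s * K.f (1 <<< i) * s⁻¹ = tp z e * K.f (get cS i) := by
    intro i hi
    rw [cS, get_pack (fun j hj => by interval_cases j <;> decide) hi, step]
    interval_cases i
    · exact ⟨false, by rw [f1, it_add]; simpa [tp] using g2.symm⟩
    · exact ⟨false, by rw [f2, it_add]; simpa [tp] using g4.symm⟩
    · rw [f4, it_add]
      obtain ⟨e, he⟩ := rel 0
      refine ⟨e, ?_⟩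
      show it (1 + 2) y = tp z e * K.f 3
      rw [g3, show 1 + 2 = 0 + 3 by omega, he, E.kap_false_iff.1 ka01]
    · refine ⟨false, ?_⟩
      show it 1 (K.f (1 <<< 3)) = tp z false * K.f 24
      rw [f8, g24, ← mul_assoc b b, bs]
      simp [tp]
    · refine ⟨false, ?_⟩
      show it 1 (K.f (1 <<< 4)) = tp z false * K.f 32
      rw [f16, g32, it_mul, it_add]
      simp [tp]
    · rw [f32, it_mul, it_add, it_add]
      obtain ⟨e, he⟩ := relb
      refine ⟨e, ?_⟩
      show it (1 + 1) b * it (1 + 2) b = tp z e * K.f 8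
      rw [g8, show 1 + 2 = 3 from rfl, he, ← mul_assoc (it (1 + 1) b), ← E.tp_comm, mul_assoc,
        ← mul_assoc (it (1 + 1) b), bsq, one_mul]
  choose! e he using hv
  have hT : K.T s = pack fun i => get cS i ^^^ b64 (e i) :=
    K.T_ext (fun i _ => Nat.xor_lt_two_pow (n := 7) (get_lt _ _) (b64_lt _)) fun i hi => by
      rw [K.f_flip (get_lt _ _), he i hi]
  obtain ⟨n, hn, h⟩ := @adjust e
  exact ⟨K, n, hn, by rw [K.T_mul, K.T_inn hn, hT, h]⟩

end CfsgLib.HeldMod
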