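import Cfsg.Agent.HeldU.Module.Code

/-!
# The extraspecial normal subgroup and its codes
-/

set_option autoImplicit false
set_option linter.unusedSectionVars false

namespace CfsgLib.HeldMod

variable {C : Type*} [Group C]

/-- `1` or `z`. -/
def tp (z : C) (b : Bool) : C := if b then z else 1

/-- A normal subgroup of order `2^7` with squares and commutators in a central pair, equal to its
own centraliser up to that pair. -/
structure Ext (z : C) (Q : Subgroup C) : Prop where
  ne : z ≠ 1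
  sq_z : z * z = 1
  comm_z : ∀ c, z * c = c * z
  mem_z : z ∈ Q
  normal : Q.Normal
  sq : ∀ x ∈ Q, x * x = 1 ∨ x * x = z
  comm : ∀ x ∈ Q, ∀ y ∈ Q, x * y = y * x ∨ x * y = z * (y * x)
  card : Nat.card Q = 128
  cent : ∀ c, (∀ x ∈ Q, c * x = x * c) → c = 1 ∨ c = z

/-- Whether two elements do not commute. -/
noncomputable def kap (x y : C) : Bool := by
  classical exact !decide (x * y = y * x)

namespace Ext

variable {z : C} {Q : Subgroup C} (E : Ext z Q)

include E

theorem tp_comm (b : Bool) (c : C) : tp z b * c = c * tp z b := by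
  cases b
  · simp [tp]
  · simpa [tp] using E.comm_z c

theorem tp_xor (a b : Bool) : tp z (Bool.xor a b) = tp z a * tp z b := by
  cases a <;> cases b <;> simp [tp, E.sq_z]

theorem tp_self (b : Bool) : tp z b * tp z b = 1 := by cases b <;> simp [tp, E.sq_z]

theorem tp_mem (b : Bool) : tp z b ∈ Q := by cases b <;> simp [tp, E.mem_z]

theorem tp_inj {a b : Bool} (h : tp z a = tp z b) : a = b := by
  have := E.ne
  cases a <;> cases b <;> simp_all [tp]

theorem kap_spec {x y : C} (hx : x ∈ Q) (hy : y ∈ Q) : x * y = tp z (kap x y) * (y * x) := by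
  classical
  by_cases h : x * y = y * x
  · simp [kap, h, tp]
  · rcases E.comm x hx y hy with h1 | h1
    · exact absurd h1 h
    · simp [kap, h, tp]
      exact h1

theorem kap_eq {x y : C} (hx : x ∈ Q) (hy : y ∈ Q) {b : Bool}
    (h : x * y = tp z b * (y * x)) : kap x y = b :=
  E.tp_inj (mul_right_cancel ((E.kap_spec hx hy).symm.trans h))

theorem kap_false_iff {x y : C} : kap x y = false ↔ x * y = y * x := by simp [kap]

theorem kap_self (x : C) : kap x x = false := by simp [kap]

theorem kap_symm (x y : C) : kap x y = kap y x := by simp [kap, eq_comm]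

theorem kap_mul {x x' y : C} (hx : x ∈ Q) (hx' : x' ∈ Q) (hy : y ∈ Q) :
    kap (x * x') y = Bool.xor (kap x y) (kap x' y) := by
  refine E.kap_eq (mul_mem hx hx') hy ?_
  calc x * x' * y = x * (x' * y) := mul_assoc _ _ _
    _ = x * (tp z (kap x' y) * (y * x')) := by rw [← E.kap_spec hx' hy]
    _ = tp z (kap x' y) * (x * y) * x' := by
      rw [← mul_assoc x, ← E.tp_comm _ x]; group
    _ = tp z (kap x' y) * (tp z (kap x y) * (y * x)) * x' := by rw [← E.kap_spec hx hy]
    _ = _ := by rw [Bool.xor_comm, E.tp_xor]; group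

theorem kap_mul_right {x y y' : C} (hx : x ∈ Q) (hy : y ∈ Q) (hy' : y' ∈ Q) :
    kap x (y * y') = Bool.xor (kap x y) (kap x y') := by
  rw [E.kap_symm, E.kap_mul hy hy' hx, E.kap_symm y, E.kap_symm y']

theorem kap_tp {x : C} (b : Bool) : kap (tp z b) x = false := E.kap_false_iff.2 (E.tp_comm b x)

theorem kap_conj (c x y : C) : kap (c * x * c⁻¹) (c * y * c⁻¹) = kap x y := by
  have e : ∀ a b : C, c * a * c⁻¹ * (c * b * c⁻¹) = c * (a * b) * c⁻¹ := fun a b => by group
  classical
  simp only [kap]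
  refine congrArg Bool.not (decide_eq_decide.2 ?_)
  simp only [e, mul_left_inj, mul_right_inj]

theorem conj_mem (c : C) {x : C} (hx : x ∈ Q) : c * x * c⁻¹ ∈ Q := E.normal.conj_mem x hx c

end Ext

/-- Codes for the elements of the subgroup. -/
structure Chart (z : C) (Q : Subgroup C) where
  /-- The element with given code. -/
  f : ℕ → C
  ext : Ext z Q
  f_mul : ∀ a < 128, ∀ b < 128, f (qm a b) = f a * f b
  f_inj : ∀ a < 128, ∀ b < 128, f a = f b → a = b
  f_z : f 64 = z
  f_mem : ∀ a < 128, f a ∈ Q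
  f_surj : ∀ x ∈ Q, ∃ a < 128, f a = x

/-- Six involutions in dual position. -/
structure Basis (z : C) (Q : Subgroup C) where
  /-- The first three. -/
  a : Fin 3 → C
  /-- The dual three. -/
  b : Fin 3 → C
  a_mem : ∀ i, a i ∈ Q
  b_mem : ∀ i, b i ∈ Q
  a_sq : ∀ i, a i * a i = 1
  b_sq : ∀ i, b i * b i = 1
  aa : ∀ i j, kap (a i) (a j) = false
  bb : ∀ i j, kap (b i) (b j) = false
  ba : ∀ i j, kap (b i) (a j) = decide (i = j)

/-- An element or one. -/
def pb (x : C) (b : Bool) : C := if b then x else 1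

theorem pb_xor {x : C} (hx : x * x = 1) (a b : Bool) : pb x (Bool.xor a b) = pb x a * pb x b := by
  cases a <;> cases b <;> simp [pb, hx]

theorem pb_mem {Q : Subgroup C} {x : C} (hx : x ∈ Q) (b : Bool) : pb x b ∈ Q := by
  cases b <;> simp [pb, hx]

theorem commute_pb {x y : C} (h : x * y = y * x) (a b : Bool) : pb x a * pb y b = pb y b * pb x a := by
  cases a <;> cases b <;> simp [pb, h]

/-- The element with given code. -/
def codeVal {z : C} {Q : Subgroup C} (B : Basis z Q) (n : ℕ) : C :=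
  tp z (n.testBit 6) *
    (pb (B.a 0) (n.testBit 0) * pb (B.a 1) (n.testBit 1) * pb (B.a 2) (n.testBit 2) *
      (pb (B.b 0) (n.testBit 3) * pb (B.b 1) (n.testBit 4) * pb (B.b 2) (n.testBit 5)))

theorem qm_bits : ∀ a < 128, ∀ b < 128,
    (qm a b).testBit 0 = Bool.xor (a.testBit 0) (b.testBit 0) ∧
    (qm a b).testBit 1 = Bool.xor (a.testBit 1) (b.testBit 1) ∧
    (qm a b).testBit 2 = Bool.xor (a.testBit 2) (b.testBit 2) ∧
    (qm a b).testBit 3 = Bool.xor (a.testBit 3) (b.testBit 3) ∧
    (qm a b).testBit 4 = Bool.xor (a.testBit 4) (b.testBit 4) ∧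
    (qm a b).testBit 5 = Bool.xor (a.testBit 5) (b.testBit 5) ∧
    (qm a b).testBit 6 = Bool.xor (Bool.xor (a.testBit 6) (b.testBit 6))
      (Bool.xor (Bool.xor (a.testBit 3 && b.testBit 0) (a.testBit 4 && b.testBit 1))
        (a.testBit 5 && b.testBit 2)) := by
  decide +kernel

theorem code_inv : ∀ a < 128, ∀ b < 128, qm (a ^^^ b64 (beta a a)) b = 0 → a = b := by
  decide +kernel

theorem code_zero_aux : ∀ a < 128, (a.testBit 0 || a.testBit 1 || a.testBit 2 || a.testBit 3 ||
    a.testBit 4 || a.testBit 5 || a.testBit 6 || a == 0) = true := by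
  decide +kernel

theorem code_zero (a : ℕ) (ha : a < 128) (h0 : a.testBit 0 = false) (h1 : a.testBit 1 = false)
    (h2 : a.testBit 2 = false) (h3 : a.testBit 3 = false) (h4 : a.testBit 4 = false)
    (h5 : a.testBit 5 = false) (h6 : a.testBit 6 = false) : a = 0 := by
  simpa [h0, h1, h2, h3, h4, h5, h6] using code_zero_aux a ha

theorem code_inv_lt : ∀ a < 128, (a ^^^ b64 (beta a a)) < 128 ∧ qm (a ^^^ b64 (beta a a)) a = 0 := by
  decide +kernel

theorem kap_pb {z : C} {Q : Subgroup C} (E : Ext z Q) (x y : C) (a b : Bool) :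
    kap (pb x a) (pb y b) = (a && b && kap x y) := by
  cases a <;> cases b <;> simp [pb, kap] <;> congr

theorem Basis.chart {z : C} {Q : Subgroup C} (E : Ext z Q) (B : Basis z Q) :
    ∃ K : Chart z Q, ∀ n, K.f n = codeVal B n := by
  set A : Bool → Bool → Bool → C := fun x y w => pb (B.a 0) x * pb (B.a 1) y * pb (B.a 2) w
  set W : Bool → Bool → Bool → C := fun x y w => pb (B.b 0) x * pb (B.b 1) y * pb (B.b 2) w
  have hom3 : ∀ (g : Fin 3 → C), (∀ i, g i * g i = 1) → (∀ i j, kap (g i) (g j) = false) →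
      ∀ x y w x' y' w', pb (g 0) (Bool.xor x x') * pb (g 1) (Bool.xor y y') *
        pb (g 2) (Bool.xor w w') =
        pb (g 0) x * pb (g 1) y * pb (g 2) w * (pb (g 0) x' * pb (g 1) y' * pb (g 2) w') := by
    intro g hs hc x y w x' y' w'
    rw [pb_xor (hs 0), pb_xor (hs 1), pb_xor (hs 2)]
    have c01 : Commute (pb (g 1) y) (pb (g 0) x') := commute_pb (E.kap_false_iff.1 (hc 1 0)) _ _
    have c02 : Commute (pb (g 2) w) (pb (g 0) x') := commute_pb (E.kap_false_iff.1 (hc 2 0)) _ _
    have c12 : Commute (pb (g 2) w) (pb (g 1) y') := commute_pb (E.kap_false_iff.1 (hc 2 1)) _ _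
    rw [c01.symm.mul_mul_mul_comm, (c02.mul_right c12).symm.mul_mul_mul_comm]
  have hAm : ∀ x y w, A x y w ∈ Q := fun x y w =>
    mul_mem (mul_mem (pb_mem (B.a_mem 0) x) (pb_mem (B.a_mem 1) y)) (pb_mem (B.a_mem 2) w)
  have hWm : ∀ x y w, W x y w ∈ Q := fun x y w =>
    mul_mem (mul_mem (pb_mem (B.b_mem 0) x) (pb_mem (B.b_mem 1) y)) (pb_mem (B.b_mem 2) w)
  have pm := @pb_mem C _ Q
  have kWA : ∀ x y w x' y' w', kap (W x y w) (A x' y' w') =
      Bool.xor (Bool.xor (x && x') (y && y')) (w && w') := by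
    intro x y w x' y' w'
    simp only [A, W, E.kap_mul (mul_mem (pm (B.b_mem 0) x) (pm (B.b_mem 1) y)) (pm (B.b_mem 2) w)
        (hAm x' y' w'),
      E.kap_mul (pm (B.b_mem 0) x) (pm (B.b_mem 1) y) (hAm x' y' w')]
    simp only [E.kap_mul_right (pm (B.b_mem 0) x) (mul_mem (pm (B.a_mem 0) x') (pm (B.a_mem 1) y'))
        (pm (B.a_mem 2) w'),
      E.kap_mul_right (pm (B.b_mem 1) y) (mul_mem (pm (B.a_mem 0) x') (pm (B.a_mem 1) y'))
        (pm (B.a_mem 2) w'),
      E.kap_mul_right (pm (B.b_mem 2) w) (mul_mem (pm (B.a_mem 0) x') (pm (B.a_mem 1) y'))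
        (pm (B.a_mem 2) w'),
      E.kap_mul_right (pm (B.b_mem 0) x) (pm (B.a_mem 0) x') (pm (B.a_mem 1) y'),
      E.kap_mul_right (pm (B.b_mem 1) y) (pm (B.a_mem 0) x') (pm (B.a_mem 1) y'),
      E.kap_mul_right (pm (B.b_mem 2) w) (pm (B.a_mem 0) x') (pm (B.a_mem 1) y'),
      kap_pb E, B.ba]
    cases x <;> cases y <;> cases w <;> simp
  have hmem : ∀ n, codeVal B n ∈ Q := fun n => mul_mem (E.tp_mem _) (mul_mem (hAm _ _ _) (hWm _ _ _))
  have hmul : ∀ a < 128, ∀ b < 128, codeVal B (qm a b) = codeVal B a * codeVal B b := by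
    intro a ha b hb
    obtain ⟨h0, h1, h2, h3, h4, h5, h6⟩ := qm_bits a ha b hb
    simp only [codeVal, h0, h1, h2, h3, h4, h5, h6]
    rw [hom3 B.a B.a_sq B.aa, hom3 B.b B.b_sq B.bb]
    have sw := E.kap_spec (hWm (a.testBit 3) (a.testBit 4) (a.testBit 5))
      (hAm (b.testBit 0) (b.testBit 1) (b.testBit 2))
    rw [kWA] at sw
    simp only [A, W] at sw
    generalize pb (B.a 0) (a.testBit 0) * pb (B.a 1) (a.testBit 1) * pb (B.a 2) (a.testBit 2) = u
      at sw ⊢
    generalize pb (B.a 0) (b.testBit 0) * pb (B.a 1) (b.testBit 1) * pb (B.a 2) (b.testBit 2) = u'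
      at sw ⊢
    generalize pb (B.b 0) (a.testBit 3) * pb (B.b 1) (a.testBit 4) * pb (B.b 2) (a.testBit 5) = v
      at sw ⊢
    generalize pb (B.b 0) (b.testBit 3) * pb (B.b 1) (b.testBit 4) * pb (B.b 2) (b.testBit 5) = v'
      at sw ⊢
    generalize Bool.xor (Bool.xor (a.testBit 3 && b.testBit 0) (a.testBit 4 && b.testBit 1))
      (a.testBit 5 && b.testBit 2) = d at sw ⊢
    rw [E.tp_xor, E.tp_xor]
    calc tp z (a.testBit 6) * tp z (b.testBit 6) * tp z d * (u * u' * (v * v'))
        = tp z (a.testBit 6) * tp z (b.testBit 6) * (tp z d * u) * (u' * v * v') := by group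
      _ = tp z (a.testBit 6) * tp z (b.testBit 6) * u * (tp z d * (u' * v)) * v' := by
          rw [E.tp_comm d u]; group
      _ = tp z (a.testBit 6) * (tp z (b.testBit 6) * (u * v)) * (u' * v') := by
          rw [← sw]; group
      _ = tp z (a.testBit 6) * ((u * v) * tp z (b.testBit 6)) * (u' * v') := by
          rw [E.tp_comm (b.testBit 6) (u * v)]
      _ = _ := by group
  have f0 : codeVal B 0 = 1 := by simp [codeVal, tp, pb]
  have hzero : ∀ a < 128, codeVal B a = 1 → a = 0 := by
    intro a ha h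
    have k : ∀ y, kap (codeVal B a) y = false := fun y => by simp [h, kap]
    have kA : ∀ y ∈ Q, kap (A (a.testBit 0) (a.testBit 1) (a.testBit 2)) y =
        kap (W (a.testBit 3) (a.testBit 4) (a.testBit 5)) y := by
      intro y hy
      have := k y
      rw [codeVal, E.kap_mul (E.tp_mem _) (mul_mem (hAm _ _ _) (hWm _ _ _)) hy,
        E.kap_mul (hAm _ _ _) (hWm _ _ _) hy, E.kap_tp] at this
      simpa using this
    have wa := fun j => kA (B.a j) (B.a_mem j)
    have wb := fun j => kA (B.b j) (B.b_mem j)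
    have ka : ∀ j, kap (A (a.testBit 0) (a.testBit 1) (a.testBit 2)) (B.a j) = false := by
      intro j
      simp [A, E.kap_mul (mul_mem (pm (B.a_mem 0) _) (pm (B.a_mem 1) _)) (pm (B.a_mem 2) _)
        (B.a_mem j), E.kap_mul (pm (B.a_mem 0) _) (pm (B.a_mem 1) _) (B.a_mem j)]
      have e : ∀ i b, kap (pb (B.a i) b) (B.a j) = false := fun i b => by
        cases b
        · simp [pb, kap]
        · simpa [pb] using B.aa i j
      simp [e]
    have kb : ∀ j, kap (W (a.testBit 3) (a.testBit 4) (a.testBit 5)) (B.b j) = false := by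
      intro j
      simp [W, E.kap_mul (mul_mem (pm (B.b_mem 0) _) (pm (B.b_mem 1) _)) (pm (B.b_mem 2) _)
        (B.b_mem j), E.kap_mul (pm (B.b_mem 0) _) (pm (B.b_mem 1) _) (B.b_mem j)]
      have e : ∀ i b, kap (pb (B.b i) b) (B.b j) = false := fun i b => by
        cases b
        · simp [pb, kap]
        · simpa [pb] using B.bb i j
      simp [e]
    have hW : ∀ j, kap (W (a.testBit 3) (a.testBit 4) (a.testBit 5)) (B.a j) = false := fun j =>
      (wa j).symm.trans (ka j)
    have hA : ∀ j, kap (B.b j) (A (a.testBit 0) (a.testBit 1) (a.testBit 2)) = false := fun j => by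
      rw [E.kap_symm]; exact (wb j).trans (kb j)
    have b3 : a.testBit 3 = false ∧ a.testBit 4 = false ∧ a.testBit 5 = false := by
      have e := fun x y w => (kWA (a.testBit 3) (a.testBit 4) (a.testBit 5) x y w)
      have e0 := e true false false
      have e1 := e false true false
      have e2 := e false false true
      simp [A, pb, hW] at e0 e1 e2
      exact ⟨e0, e1, e2⟩
    have b0 : a.testBit 0 = false ∧ a.testBit 1 = false ∧ a.testBit 2 = false := by
      generalize a.testBit 0 = x0, a.testBit 1 = x1, a.testBit 2 = x2 at hA ⊢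
      have e := fun x y w => (kWA x y w x0 x1 x2)
      have e0 := e true false false
      have e1 := e false true false
      have e2 := e false false true
      simp [W, pb, hA] at e0 e1 e2
      exact ⟨e0, e1, e2⟩
    obtain ⟨h3, h4, h5⟩ := b3
    obtain ⟨h0, h1, h2⟩ := b0
    refine code_zero a ha h0 h1 h2 h3 h4 h5 (E.tp_inj ?_)
    simpa [codeVal, h0, h1, h2, h3, h4, h5, pb, tp] using h
  have hinj : ∀ a < 128, ∀ b < 128, codeVal B a = codeVal B b → a = b := by
    intro a ha b hb h
    obtain ⟨hi, he⟩ := code_inv_lt a ha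
    refine code_inv a ha b hb (hzero _ (qm_lt hi hb) ?_)
    rw [hmul _ hi b hb, ← h, ← hmul _ hi a ha, he, f0]
  have hsurj : ∀ x ∈ Q, ∃ a < 128, codeVal B a = x := by
    have : Finite Q := Nat.finite_of_card_ne_zero (by rw [E.card]; norm_num)
    have hi : Function.Injective (fun a : Fin 128 => (⟨codeVal B a, hmem a⟩ : Q)) := fun a b h =>
      Fin.ext (hinj a a.2 b b.2 (congrArg Subtype.val h))
    obtain ⟨-, hs⟩ := (Nat.bijective_iff_injective_and_card _).2 ⟨hi, by simp [E.card]⟩
    intro x hx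
    obtain ⟨a, ha⟩ := hs ⟨x, hx⟩
    exact ⟨a, a.2, congrArg Subtype.val ha⟩
  have h64 : codeVal B 64 = z := by
    simp [codeVal, pb, tp, Nat.testBit]
  exact ⟨⟨codeVal B, E, hmul, hinj, h64, fun a _ => hmem a, hsurj⟩, fun _ => rfl⟩

end CfsgLib.HeldMod
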