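import Cfsg.Agent.HeldU.Module.Table

/-!
# Consequences of the tables
-/

set_option autoImplicit false
set_option linter.unusedSectionVars false

namespace CfsgLib.HeldMod

variable {C : Type*} [Group C] {z : C} {Q : Subgroup C}

/-- The number of square roots. -/
noncomputable def nRoots (x : C) : ℕ := Nat.card {y : C // y * y = x}

/-- The number of square roots of `z` commuting with `x`. -/
noncomputable def nRootsComm (z x : C) : ℕ := Nat.card {y : C // y * y = z ∧ y * x = x * y}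

theorem nRoots_conj (p x : C) : nRoots (p * x * p⁻¹) = nRoots x := by
  refine (Nat.card_congr ((MulAut.conj p).toEquiv.subtypeEquiv fun y => ?_)).symm
  show y * y = x ↔ p * y * p⁻¹ * (p * y * p⁻¹) = p * x * p⁻¹
  rw [show p * y * p⁻¹ * (p * y * p⁻¹) = p * (y * y) * p⁻¹ by group, mul_left_inj, mul_right_inj]

theorem nRootsComm_conj {z : C} (p x : C) (h : p * z * p⁻¹ = z) :
    nRootsComm z (p * x * p⁻¹) = nRootsComm z x := by
  refine (Nat.card_congr ((MulAut.conj p).toEquiv.subtypeEquiv fun y => ?_)).symm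
  show (y * y = z ∧ y * x = x * y) ↔
    (p * y * p⁻¹ * (p * y * p⁻¹) = z ∧ p * y * p⁻¹ * (p * x * p⁻¹) = p * x * p⁻¹ * (p * y * p⁻¹))
  have e : ∀ a b : C, p * a * p⁻¹ * (p * b * p⁻¹) = p * (a * b) * p⁻¹ := fun a b => by group
  rw [e, e, e]
  conv_rhs => rw [← h]
  simp only [mul_left_inj, mul_right_inj]

/-- The order of a centraliser. -/
noncomputable def nCent (x : C) : ℕ := Nat.card (Subgroup.centralizer ({x} : Set C))

theorem nCent_mul_orbit (x : C) : nCent x * Nat.card {y : C // IsConj x y} = Nat.card C := by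
  have h := Subgroup.index_mul_card (Subgroup.centralizer ({x} : Set C))
  rw [← h, mul_comm, nCent]
  congr 1
  let f : {y : C // IsConj x y} → C ⧸ Subgroup.centralizer ({x} : Set C) := fun y =>
    QuotientGroup.mk (Classical.choose (isConj_iff.1 y.2))
  have hf : ∀ y : {y : C // IsConj x y}, Classical.choose (isConj_iff.1 y.2) * x *
      (Classical.choose (isConj_iff.1 y.2))⁻¹ = y := fun y => Classical.choose_spec (isConj_iff.1 y.2)
  rw [Subgroup.index_eq_card]
  refine Nat.card_eq_of_bijective f ⟨fun y y' h => ?_, fun q => ?_⟩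
  · have hm := Subgroup.mem_centralizer_singleton_iff.1 (QuotientGroup.eq.1 h)
    apply Subtype.ext
    rw [← hf y, ← hf y']
    generalize Classical.choose (isConj_iff.1 y.2) = a at hm ⊢
    generalize Classical.choose (isConj_iff.1 y'.2) = b at hm ⊢
    calc a * x * a⁻¹ = a * (x * (a⁻¹ * b)) * b⁻¹ := by group
      _ = a * (a⁻¹ * b * x) * b⁻¹ := by rw [hm]
      _ = _ := by group
  · obtain ⟨a, rfl⟩ := QuotientGroup.mk_surjective q
    refine ⟨⟨a * x * a⁻¹, isConj_iff.2 ⟨a, rfl⟩⟩, ?_⟩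
    refine QuotientGroup.eq.2 (Subgroup.mem_centralizer_singleton_iff.2 ?_)
    have := hf ⟨a * x * a⁻¹, isConj_iff.2 ⟨a, rfl⟩⟩
    simp only at this
    generalize Classical.choose (isConj_iff.1 (⟨a * x * a⁻¹, isConj_iff.2 ⟨a, rfl⟩⟩ : {y : C // IsConj x y}).2) = b
      at this ⊢
    calc b⁻¹ * a * x = b⁻¹ * (a * x * a⁻¹) * a := by group
      _ = b⁻¹ * (b * x * b⁻¹) * a := by rw [this]
      _ = _ := by group

theorem nCent_conj [Finite C] (p x : C) : nCent (p * x * p⁻¹) = nCent x := by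
  refine (Nat.card_congr ((MulAut.conj p).toEquiv.subtypeEquiv fun y => ?_)).symm
  rw [Subgroup.mem_centralizer_singleton_iff, Subgroup.mem_centralizer_singleton_iff]
  show y * x = x * y ↔ p * y * p⁻¹ * (p * x * p⁻¹) = p * x * p⁻¹ * (p * y * p⁻¹)
  have e : ∀ a b : C, p * a * p⁻¹ * (p * b * p⁻¹) = p * (a * b) * p⁻¹ := fun a b => by group
  rw [e, e, mul_left_inj, mul_right_inj]

/-- The two generators realise the tables. -/
structure Real (K : Chart z Q) (D : Dat) (s w : C) : Prop where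
  ok : D.OK
  s_T : K.T s = cS
  w_T : K.T w = D.W
  gen : ∀ H : Subgroup C, Q ≤ H → s ∈ H → w ∈ H → H = ⊤

/-- The normal piece. -/
def piece (K : Chart z Q) (D : Dat) : Set C := {c | ∃ n < 128, D.inE n = true ∧ K.f n = c}

namespace Real

variable {K : Chart z Q} {D : Dat} {s w : C} (R : Real K D s w)

include R

theorem step_facts {k : ℕ} (hk : k < 168) :
    (D.sS.getD k 0 / 128 < 168 ∧ D.sW.getD k 0 / 128 < 168 ∧
    cmp (inn (D.sS.getD k 0 % 128)) (cmp cS (D.wd k)) = D.wd (D.sS.getD k 0 / 128) ∧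
    cmp (inn (D.sW.getD k 0 % 128)) (cmp D.W (D.wd k)) = D.wd (D.sW.getD k 0 / 128)) ∧
    (k ≠ 0 → D.par.getD k 0 / 2 < k ∧ mproj (D.wd k) ≠ one ∧
      if D.par.getD k 0 % 2 = 0 then D.sS.getD (D.par.getD k 0 / 2) 0 / 128 = k
      else D.sW.getD (D.par.getD k 0 / 2) 0 / 128 = k) := by
  have h := R.ok.step
  simp only [Dat.stepOK, Bool.and_eq_true, List.all_eq_true, List.mem_range, decide_eq_true_eq,
    beq_iff_eq, Bool.or_eq_true, Bool.not_eq_true', beq_eq_false_iff_ne] at h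
  obtain ⟨⟨⟨⟨a, b⟩, c⟩, d⟩, e⟩ := h.2 k hk
  refine ⟨⟨a, b, c, d⟩, fun h0 => ?_⟩
  obtain ⟨⟨e1, e2⟩, e3⟩ := e.resolve_left h0
  refine ⟨e1, e2, ?_⟩
  split
  · rename_i h2; rw [if_pos h2] at e3; exact beq_iff_eq.1 e3
  · rename_i h2; rw [if_neg h2] at e3; exact beq_iff_eq.1 e3

theorem wd_zero : D.wd 0 = one := by
  have h := R.ok.step
  simp only [Dat.stepOK, Bool.and_eq_true, beq_iff_eq] at h
  exact h.1

theorem exists_wd : ∀ k < 168, ∃ p, K.T p = D.wd k := by
  intro k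
  induction k using Nat.strong_induction_on with
  | _ k ih =>
    intro hk
    by_cases h0 : k = 0
    · exact ⟨1, by rw [K.T_one, h0, R.wd_zero]⟩
    obtain ⟨hp, -, hg⟩ := (R.step_facts hk).2 h0
    obtain ⟨⟨-, -, c, d⟩, -⟩ := R.step_facts (hp.trans hk)
    obtain ⟨p, hpT⟩ := ih _ hp (hp.trans hk)
    split at hg
    · refine ⟨K.f (D.sS.getD (D.par.getD k 0 / 2) 0 % 128) * (s * p), ?_⟩
      rw [K.T_mul, K.T_mul, K.T_inn (Nat.mod_lt _ (by norm_num)), R.s_T, hpT, c, hg]
    · refine ⟨K.f (D.sW.getD (D.par.getD k 0 / 2) 0 % 128) * (w * p), ?_⟩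
      rw [K.T_mul, K.T_mul, K.T_inn (Nat.mod_lt _ (by norm_num)), R.w_T, hpT, d, hg]

/-- Every element of the image has a code. -/
theorem exists_val [Finite C] (c : C) : ∃ k < 168, ∃ n < 64, K.T c = D.val (64 * k + n) := by
  let S : Set C := {c | ∃ k < 168, ∃ q ∈ Q, ∃ p, K.T p = D.wd k ∧ c = q * p}
  have hQ : ∀ q ∈ Q, ∀ c ∈ S, q * c ∈ S := by
    rintro q hq c ⟨k, hk, q', hq', p, hp, rfl⟩
    exact ⟨k, hk, q * q', mul_mem hq hq', p, hp, (mul_assoc _ _ _).symm⟩
  have hgen : ∀ g, g = s ∨ g = w → ∀ c ∈ S, g * c ∈ S := by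
    rintro g hg c ⟨k, hk, q', hq', p, hp, rfl⟩
    obtain ⟨⟨a, b, hS, hW⟩, -⟩ := R.step_facts hk
    obtain ⟨k', hk', m, hm, he⟩ : ∃ k' < 168, ∃ m < 128, cmp (inn m) (cmp (K.T g) (D.wd k)) = D.wd k' := by
      rcases hg with rfl | rfl
      · exact ⟨_, a, _, Nat.mod_lt _ (by norm_num), by rw [R.s_T]; exact hS⟩
      · exact ⟨_, b, _, Nat.mod_lt _ (by norm_num), by rw [R.w_T]; exact hW⟩
    refine ⟨k', hk', g * q' * g⁻¹ * (K.f m)⁻¹,
      mul_mem (K.ext.conj_mem g hq') (inv_mem (K.f_mem m hm)), K.f m * (g * p), ?_, by group⟩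
    rw [K.T_mul, K.T_mul, K.T_inn hm, hp, he]
  let H : Subgroup C :=
    { carrier := {g | ∀ c ∈ S, g * c ∈ S}
      one_mem' := fun c hc => by simpa using hc
      mul_mem' := fun {a b} ha hb c hc => by rw [mul_assoc]; exact ha _ (hb c hc)
      inv_mem' := fun {a} ha c hc => by
        have hfin : S.Finite := Set.toFinite _
        have hb := hfin.surjOn_iff_bijOn_of_mapsTo (f := (a * ·)) ha
        have hinj : Set.InjOn (a * ·) S := fun _ _ _ _ e => mul_left_cancel e
        obtain ⟨d, hd, hdc⟩ := (hfin.injOn_iff_bijOn_of_mapsTo ha).1 hinj |>.surjOn hc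
        rw [← hdc, inv_mul_cancel_left]; exact hd }
  have h1 : (1 : C) ∈ S := ⟨0, by norm_num, 1, one_mem _, 1, by rw [K.T_one, R.wd_zero], by simp⟩
  have htop : H = ⊤ := R.gen H hQ (hgen s (Or.inl rfl)) (hgen w (Or.inr rfl))
  have hc : c ∈ S := by
    have : c ∈ H := htop ▸ Subgroup.mem_top c
    simpa using this 1 h1
  obtain ⟨k, hk, q, hq, p, hp, rfl⟩ := hc
  obtain ⟨n, hn, rfl⟩ := K.f_surj q hq
  have h64 : n &&& 63 < 64 := lt_of_le_of_lt Nat.and_le_right (by norm_num)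
  refine ⟨k, hk, n &&& 63, h64, ?_⟩
  rw [K.T_mul, K.T_inn hn, hp, Chart.inn_and63 hn, Dat.val]
  congr 2 <;> omega

theorem exists_real {j : ℕ} (hj : j < 10752) : ∃ c, K.T c = D.val j := by
  obtain ⟨p, hp⟩ := R.exists_wd (j / 64) (by omega)
  exact ⟨K.f (j % 64) * p, by rw [K.T_mul, K.T_inn (by omega), hp]; rfl⟩

theorem gen_real {i : ℕ} (hi : i < 8) : ∃ c, K.T c = D.gen i := by
  unfold Dat.gen
  split
  · exact ⟨s, R.s_T⟩
  split
  · exact ⟨w, R.w_T⟩
  · exact ⟨_, K.T_inn (Chart.shift_lt (show i - 2 < 6 by omega))⟩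

theorem clsOK_facts {c : Cls} (hc : c ∈ D.inner :: D.outer) :
    28 ≤ c.L.length ∧ ((c.L.take 28).map D.val).Nodup ∧ (∀ j ∈ c.L, j < 10752) ∧
    ∀ i < c.L.length, i ≠ 0 → c.P.getD i 0 / 8 < i ∧
      cmp (D.gen (c.P.getD i 0 % 8)) (D.val (c.L.getD (c.P.getD i 0 / 8) 0)) =
        cmp (D.val (c.L.getD i 0)) (D.gen (c.P.getD i 0 % 8)) := by
  have h := R.ok.cls c hc
  simp only [Dat.clsOK, Bool.and_eq_true, List.all_eq_true, List.mem_range, decide_eq_true_eq,
    beq_iff_eq, Bool.or_eq_true] at h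
  obtain ⟨⟨⟨a, b⟩, d⟩, e⟩ := h
  exact ⟨a, b, d, fun i hi h0 => (e i hi).resolve_left h0⟩

theorem conj_member {c : Cls} (hc : c ∈ D.inner :: D.outer) {x : C}
    (hx : K.T x = D.val (c.L.getD 0 0)) :
    ∀ i < c.L.length, ∃ g, K.T (g * x * g⁻¹) = D.val (c.L.getD i 0) := by
  obtain ⟨-, -, hlt, hP⟩ := R.clsOK_facts hc
  intro i
  induction i using Nat.strong_induction_on with
  | _ i ih =>
    intro hi
    by_cases h0 : i = 0
    · exact ⟨1, by rw [h0]; simpa using hx⟩
    obtain ⟨hp, he⟩ := hP i hi h0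
    obtain ⟨g, hg⟩ := ih _ hp (hp.trans hi)
    obtain ⟨a, ha⟩ := R.gen_real (Nat.mod_lt (c.P.getD i 0) (show 8 > 0 by norm_num))
    obtain ⟨y, hy⟩ := R.exists_real (hlt (c.L.getD i 0)
      (by rw [List.getD_eq_getElem _ _ hi]; exact List.getElem_mem hi))
    refine ⟨a * g, ?_⟩
    have e : K.T (a * g * x * (a * g)⁻¹ * a) = K.T (y * a) := by
      rw [show a * g * x * (a * g)⁻¹ * a = a * (g * x * g⁻¹) by group, K.T_mul a, K.T_mul y, hg, ha, hy, he]
    obtain ⟨b, hb⟩ := K.eq_tp_of_T_eq e.symm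
    have : a * g * x * (a * g)⁻¹ = tp z b * y := mul_right_cancel (hb.trans (mul_assoc _ _ _).symm)
    rw [this, K.T_tp, hy]

/-- Roots in a class are few, those of the centre commuting many. -/
theorem rep_lt [Finite C] {c : Cls} (hc : c ∈ D.inner :: D.outer) {x : C} (hx2 : x * x = 1)
    (hx : K.T x = D.val (c.L.getD 0 0)) : nRoots x < nRootsComm z x := by
  classical
  haveI := Fintype.ofFinite C
  have hr := R.ok.roots c hc
  simp only [Dat.rootsOK, Bool.and_eq_true, List.all_eq_true, List.mem_range, decide_eq_true_eq,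
    Bool.or_eq_true, Bool.not_eq_true', beq_eq_false_iff_ne, List.contains_iff_mem] at hr
  obtain ⟨⟨hRlt, hR8⟩, hroot⟩ := hr
  have hw := R.ok.wit c hc
  simp only [Dat.witOK, Bool.and_eq_true, List.all_eq_true, decide_eq_true_eq, Bool.or_eq_true,
    beq_iff_eq, Bool.not_eq_true', beq_eq_false_iff_ne, List.isEmpty_iff] at hw
  obtain ⟨⟨hns, hn⟩, hw⟩ := hw
  set X := D.val (c.L.getD 0 0)
  have hfix : ∀ n < 128, ap X n = n → K.f n * x = x * K.f n := by
    intro n hn he
    have := K.conj_f x hn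
    rw [hx, he] at this
    calc K.f n * x = x * K.f n * x⁻¹ * x := by rw [this]
      _ = _ := by group
  have hsq : ∀ n < 128, qm n n = 64 → K.f n * K.f n = z := fun n hn he => by
    rw [← K.f_mul n hn n hn, he, K.f_z]
  have hroots : ∀ y, K.T (y * y) = X → ∃ j ∈ c.R, K.T y = D.val j := by
    intro y hy
    obtain ⟨k, hk, n, hn, hyT⟩ := R.exists_val y
    have hM : mcmp (mproj (D.wd k)) (mproj (D.wd k)) = mproj X := by
      have e : K.MM y = mproj (D.wd k) := by
        obtain ⟨p, hp⟩ := R.exists_wd k hk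
        have : K.T y = K.T (K.f n * p) := by
          rw [hyT, K.T_mul, K.T_inn (by omega), hp, Dat.val,
            show (64 * k + n) % 64 = n by omega, show (64 * k + n) / 64 = k by omega]
        rw [Chart.MM, this, ← Chart.MM, K.MM_mul, K.MM_mem (K.f_mem n (by omega)), ← K.MM_mem (one_mem Q),
          ← K.MM_mul, one_mul, Chart.MM, hp]
      rw [← e, ← K.MM_mul, Chart.MM, hy]
    rcases (hroot k hk).resolve_left (fun h => h hM) n hn with h | h
    · exact absurd (by rw [← hy, K.T_mul, hyT]) h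
    · exact ⟨_, h, hyT⟩
  by_cases hemp : c.R = []
  · have h0 : nRoots x = 0 := by
      haveI : IsEmpty {y : C // y * y = x} := ⟨fun ⟨y, hy⟩ => by
        obtain ⟨j, hj, -⟩ := hroots y (by rw [hy, hx])
        simp [hemp] at hj⟩
      exact Nat.card_of_isEmpty
    obtain ⟨n, hn'⟩ := List.exists_mem_of_length_pos hns
    obtain ⟨⟨a, b⟩, d⟩ := hn n hn'
    haveI : Nonempty {y : C // y * y = z ∧ y * x = x * y} := ⟨⟨K.f n, hsq n a b, hfix n a d⟩⟩
    rw [h0]; exact Nat.card_pos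
  obtain ⟨⟨⟨⟨⟨⟨⟨⟨⟨⟨⟨⟨⟨w1, w2⟩, w3⟩, w4⟩, w5⟩, w6⟩, w7⟩, w8⟩, w9⟩, w10⟩, w11⟩, w12⟩, w13⟩, w14⟩ :=
    hw.resolve_left hemp
  -- the two lifts have equally many roots
  have hflip : nRoots (z * x) = nRoots x := by
    have h := K.conj_f x w3
    rw [hx, w4, K.f_xor64 w3] at h
    have e : z * x = K.f c.fl * x * (K.f c.fl)⁻¹ := by
      have h' : x * K.f c.fl = z * K.f c.fl * x := by rw [← h]; group
      calc z * x = z * (K.f c.fl * (x * x) * (K.f c.fl)⁻¹) * x := by rw [hx2]; group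
        _ = z * K.f c.fl * x * (x * (K.f c.fl)⁻¹ * x) := by group
        _ = x * K.f c.fl * (x * (K.f c.fl)⁻¹ * x) := by rw [h']
        _ = _ := by
          have : (x * K.f c.fl)⁻¹ = (z * K.f c.fl * x)⁻¹ := by rw [h']
          have hz' : z⁻¹ = z := inv_eq_of_mul_eq_one_right K.ext.sq_z
          have hx' : x⁻¹ = x := inv_eq_of_mul_eq_one_right hx2
          simp only [mul_inv_rev, hz', hx'] at this
          calc x * K.f c.fl * (x * (K.f c.fl)⁻¹ * x)
              = (z * K.f c.fl * x) * (x * ((K.f c.fl)⁻¹ * x)) := by rw [h']; group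
            _ = z * (K.f c.fl * (x * x)) * ((K.f c.fl)⁻¹ * x) := by group
            _ = z * (K.f c.fl * (x * ((K.f c.fl)⁻¹ * z))) := by rw [hx2, ← this]; group
            _ = z * (K.f c.fl * x * (K.f c.fl)⁻¹) * z := by group
            _ = _ := by rw [K.ext.comm_z, mul_assoc, K.ext.sq_z, mul_one]
    rw [e, nRoots_conj]
  have hup : nRoots x + nRoots (z * x) ≤ 2 * c.R.length := by
    let ys : ℕ → C := fun j => if h : j < 10752 then Classical.choose (R.exists_real h) else 1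
    simp only [nRoots, Nat.card_eq_fintype_card, Fintype.card_subtype]
    rw [← Finset.card_union_of_disjoint]
    · refine le_trans (Finset.card_le_card (t := (c.R.flatMap fun j => [ys j, z * ys j]).toFinset)
        fun y hy => ?_) (le_trans (List.toFinset_card_le _) (le_of_eq ?_))
      · obtain ⟨j, hj, hyT⟩ := hroots y (by
          rcases Finset.mem_union.1 hy with h | h <;> rw [(Finset.mem_filter.1 h).2]
          · exact hx
          · rw [show z * x = tp z true * x from rfl, K.T_tp, hx])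
        have hys : K.T (ys j) = D.val j := by
          simp only [ys, dif_pos (hRlt j hj)]
          exact Classical.choose_spec (R.exists_real (hRlt j hj))
        refine List.mem_toFinset.2 (List.mem_flatMap.2 ⟨j, hj, ?_⟩)
        rcases K.eq_of_T_eq (hys.trans hyT.symm) with e | e <;> simp [e]
      · simp [List.length_flatMap, mul_comm]
    · refine Finset.disjoint_filter.2 fun y _ h1 h2 => K.ext.ne ?_
      exact mul_eq_right.1 (h2.symm.trans h1)
  rcases Nat.eq_zero_or_pos (nRoots x) with h0 | hpos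
  · obtain ⟨n, hn'⟩ := List.exists_mem_of_length_pos hns
    obtain ⟨⟨a, b⟩, d⟩ := hn n hn'
    haveI : Nonempty {y : C // y * y = z ∧ y * x = x * y} := ⟨⟨K.f n, hsq n a b, hfix n a d⟩⟩
    rw [h0]; exact Nat.card_pos
  -- an extra square root of the centre
  obtain ⟨r, hr⟩ : ∃ r, r * r = x := by
    obtain ⟨⟨r, hr⟩⟩ := (Nat.card_pos_iff.1 hpos).1
    exact ⟨r, hr⟩
  obtain ⟨j, hj, hrT⟩ := hroots r (by rw [hr, hx])
  obtain ⟨y, hyT⟩ := R.exists_real w5
  have hy2 : y * y = 1 ∨ y * y = z := by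
    rcases K.eq_of_T_eq (c := 1) (d := y * y) (by rw [K.T_one, K.T_mul, hyT, w6]) with e | e
    · exact Or.inl e
    · exact Or.inr (by rw [e, mul_one])
  have hyr : r * (y * (r * y)) = 1 ∨ r * (y * (r * y)) = z := by
    have he := w14 j hj
    rcases K.eq_of_T_eq (c := 1) (d := r * (y * (r * y)))
      (by rw [K.T_one, K.T_mul, K.T_mul, K.T_mul, hrT, hyT, he]) with e | e
    · exact Or.inl e
    · exact Or.inr (by rw [e, mul_one])
  have hyx : y * x = x * y := by
    obtain ⟨b, hb⟩ : ∃ b, y * y = tp z b := by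
      rcases hy2 with e | e
      · exact ⟨false, e⟩
      · exact ⟨true, e⟩
    obtain ⟨d, hd⟩ : ∃ d, r * (y * (r * y)) = tp z d := by
      rcases hyr with e | e
      · exact ⟨false, e⟩
      · exact ⟨true, e⟩
    have hconj : y * r * y⁻¹ = tp z (Bool.xor d b) * r⁻¹ := by
      calc y * r * y⁻¹ = r⁻¹ * (r * (y * (r * y))) * (y * y)⁻¹ := by group
        _ = r⁻¹ * tp z d * (tp z b)⁻¹ := by rw [hd, hb]
        _ = _ := by
          rw [inv_eq_of_mul_eq_one_right (K.ext.tp_self b), mul_assoc, ← K.ext.tp_xor, ← K.ext.tp_comm]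
    have h : y * r * y⁻¹ * (y * r * y⁻¹) =
        tp z (Bool.xor d b) * r⁻¹ * (tp z (Bool.xor d b) * r⁻¹) := by rw [hconj]
    have h1 : y * r * y⁻¹ * (y * r * y⁻¹) = y * x * y⁻¹ := by rw [← hr]; group
    have h2 : tp z (Bool.xor d b) * r⁻¹ * (tp z (Bool.xor d b) * r⁻¹) = x := by
      rw [K.ext.sq_eqv ⟨Bool.xor d b, rfl⟩, ← mul_inv_rev, hr, inv_eq_of_mul_eq_one_right hx2]
    exact mul_inv_eq_iff_eq_mul.1 (h1.symm.trans (h.trans h2))
  have hym : y * K.f c.m = K.f c.m * y := by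
    have := K.conj_f y w10
    rw [hyT, w13] at this
    exact mul_inv_eq_iff_eq_mul.1 this
  obtain ⟨u, hu, hux, huM⟩ : ∃ u, u * u = z ∧ u * x = x * u ∧ K.MM u = K.MM y := by
    rcases hy2 with e | e
    · refine ⟨K.f c.m * y, ?_, ?_, ?_⟩
      · calc K.f c.m * y * (K.f c.m * y) = K.f c.m * (y * K.f c.m) * y := by group
          _ = K.f c.m * K.f c.m * (y * y) := by rw [hym]; group
          _ = z := by rw [hsq _ w10 w11, e, mul_one]
      · rw [mul_assoc, hyx, ← mul_assoc, hfix _ w10 w12, mul_assoc]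
      · exact K.MM_eq_of_mem (by rw [mul_inv_cancel_right]; exact K.f_mem _ w10)
    · exact ⟨y, e, hyx, rfl⟩
  let l : List C := u :: (c.ns.map K.f ++ c.ns.map fun n => K.f n * x)
  have hMx : K.MM x = mproj X := by rw [Chart.MM, hx]
  have hMy : K.MM y = mproj (D.val c.Y) := by rw [Chart.MM, hyT]
  have hMn : ∀ n ∈ c.ns, K.MM (K.f n * x) = mproj X := fun n hn' => by
    rw [← hMx]; exact K.MM_eq_of_mem (by rw [mul_inv_cancel_right]; exact K.f_mem _ (hn n hn').1.1)
  have hnd : l.Nodup := by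
    refine List.nodup_cons.2 ⟨fun h => ?_, List.nodup_append.2 ⟨?_, ?_, ?_⟩⟩
    · rcases List.mem_append.1 h with h | h <;> obtain ⟨n, hn', e⟩ := List.mem_map.1 h
      · exact w7 (by rw [← hMy, ← huM, ← e]; exact K.MM_mem (K.f_mem _ (hn n hn').1.1))
      · exact w8 (by rw [← hMy, ← huM, ← e]; exact hMn n hn')
    · exact w1.map_on fun a ha b hb e => K.f_inj a (hn a ha).1.1 b (hn b hb).1.1 e
    · exact w1.map_on fun a ha b hb e => K.f_inj a (hn a ha).1.1 b (hn b hb).1.1 (mul_right_cancel e)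
    · intro a ha b hb e
      obtain ⟨n, hn', rfl⟩ := List.mem_map.1 ha
      obtain ⟨n', hn'', rfl⟩ := List.mem_map.1 hb
      refine w9 ?_
      rw [← hMn n' hn'', ← e]
      exact K.MM_mem (K.f_mem _ (hn n hn').1.1)
  have hlen : l.length = 9 := by simp [l, w2]
  have hlow : 9 ≤ nRootsComm z x := by
    rw [nRootsComm, Nat.card_eq_fintype_card, Fintype.card_subtype, ← hlen,
      ← List.toFinset_card_of_nodup hnd]
    refine Finset.card_le_card fun a ha => Finset.mem_filter.2 ⟨Finset.mem_univ _, ?_⟩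
    rcases List.mem_cons.1 (List.mem_toFinset.1 ha) with rfl | h
    · exact ⟨hu, hux⟩
    rcases List.mem_append.1 h with h | h <;> obtain ⟨n, hn', rfl⟩ := List.mem_map.1 h
    · exact ⟨hsq n (hn n hn').1.1 (hn n hn').1.2, hfix n (hn n hn').1.1 (hn n hn').2⟩
    · have e := hfix n (hn n hn').1.1 (hn n hn').2
      refine ⟨?_, ?_⟩
      · calc K.f n * x * (K.f n * x) = K.f n * (x * K.f n) * x := by group
          _ = K.f n * K.f n * (x * x) := by rw [← e]; group
          _ = z := by rw [hsq n (hn n hn').1.1 (hn n hn').1.2, hx2, mul_one]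
      · calc K.f n * x * x = K.f n * (x * x) := mul_assoc _ _ _
          _ = x * (x * K.f n) := by rw [hx2, mul_one, ← mul_assoc, hx2, one_mul]
          _ = _ := by rw [e]
  omega

/-- An involution outside the piece. -/
theorem outside [Finite C] {x : C} (hx2 : x * x = 1) (hxE : x ∉ piece K D) :
    nRoots x < nRootsComm z x ∧ nCent x * 28 ≤ Nat.card C := by
  classical
  obtain ⟨c, hc, i, hi, hxi⟩ : ∃ c ∈ D.inner :: D.outer, ∃ i < c.L.length,
      K.T x = D.val (c.L.getD i 0) := by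
    have hcov := R.ok.cover
    simp only [Dat.coverOK, Bool.and_eq_true, List.all_eq_true, List.mem_range, Bool.or_eq_true,
      List.contains_iff_mem, Bool.not_eq_true', beq_eq_false_iff_ne, beq_iff_eq, List.any_eq_true] at hcov
    obtain ⟨k, hk, n, hn, hT⟩ := R.exists_val x
    have hone : cmp (D.val (64 * k + n)) (D.val (64 * k + n)) = one := by
      rw [← hT, ← K.T_mul, hx2, K.T_one]
    have hidx : ∀ c : Cls, ∀ j ∈ c.L, K.T x = D.val j → ∃ i < c.L.length, K.T x = D.val (c.L.getD i 0) :=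
      fun c j hj h => ⟨c.L.idxOf j, List.idxOf_lt_length_iff.2 hj, by
        rw [List.getD_eq_getElem _ _ (List.idxOf_lt_length_iff.2 hj), List.getElem_idxOf]; exact h⟩
    by_cases h0 : k = 0
    · subst h0
      rw [show 64 * 0 + n = n by omega] at hT
      have hinn : K.T x = inn n := by
        obtain ⟨p, hp⟩ := R.exists_wd 0 (by norm_num)
        rw [hT, Dat.val, Nat.mod_eq_of_lt hn, Nat.div_eq_of_lt hn, R.wd_zero, ← K.T_inn (by omega),
          ← K.T_one, ← K.T_mul, mul_one]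
      obtain ⟨b, hb⟩ := K.eq_tp_of_T_eq ((K.T_inn (show n < 128 by omega)).trans hinn.symm)
      rw [← K.f_flip (show n < 128 by omega)] at hb
      have hm : n ^^^ b64 b < 128 := Nat.xor_lt_two_pow (n := 7) (by omega) (b64_lt b)
      rcases hcov.1 _ hm with (h | h) | h
      · exfalso
        have hz : x * x = z := by
          rw [hb, ← K.f_mul _ hm _ hm, qm, h, Nat.xor_self, Nat.zero_xor]; exact K.f_z
        exact K.ext.ne (hz.symm.trans hx2)
      · exact absurd ⟨_, hm, h, hb.symm⟩ hxE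
      · refine ⟨D.inner, List.mem_cons_self, hidx _ _ h ?_⟩
        have h64 : (n ^^^ b64 b) &&& 63 = n := by
          rw [Nat.and_xor_distrib_right, Nat.and_two_pow_sub_one_eq_mod n 6, Nat.mod_eq_of_lt hn]
          cases b <;> simp [b64]
        rw [h64]; exact hT
    · have h2 : mcmp (mproj (D.wd k)) (mproj (D.wd k)) = one := by
        have hv : mproj (D.val (64 * k + n)) = mproj (D.wd k) := by
          obtain ⟨p, hp⟩ := R.exists_wd k hk
          rw [Dat.val, show (64 * k + n) % 64 = n by omega, show (64 * k + n) / 64 = k by omega,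
            ← K.T_inn (by omega), ← hp, ← K.T_mul]
          exact K.MM_eq_of_mem (by rw [mul_inv_cancel_right]; exact K.f_mem _ (by omega))
        rw [← hv, ← mproj_cmp, hone]
        decide +kernel
      rcases (hcov.2 k hk).resolve_left (not_or.2 ⟨h0, fun h => h h2⟩) n hn with h | ⟨c, hc, h⟩
      · exact absurd hone h
      · exact ⟨c, List.mem_cons_of_mem _ hc, hidx c _ h hT⟩
  obtain ⟨hlen, hnd, hlt, -⟩ := R.clsOK_facts hc
  obtain ⟨y₀, hy₀⟩ := R.exists_real (hlt (c.L.getD 0 0) (by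
    rw [List.getD_eq_getElem _ _ (show 0 < c.L.length by omega)]; exact List.getElem_mem _))
  obtain ⟨g, hg⟩ := R.conj_member hc hy₀ i hi
  set x₀ := g⁻¹ * x * g with hx₀
  have hx₀T : K.T x₀ = D.val (c.L.getD 0 0) := by
    obtain ⟨b, hb⟩ := K.eq_tp_of_T_eq (hg.trans hxi.symm)
    rw [← hy₀, hx₀, hb, show g⁻¹ * (tp z b * (g * y₀ * g⁻¹)) * g = tp z b * y₀ by
      rw [← mul_assoc g⁻¹, ← K.ext.tp_comm]; group, K.T_tp]
  have hxx : x = g * x₀ * g⁻¹ := by rw [hx₀]; group
  have hx₀2 : x₀ * x₀ = 1 := by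
    calc x₀ * x₀ = g⁻¹ * (x * x) * g := by rw [hx₀]; group
      _ = 1 := by rw [hx2]; group
  constructor
  · rw [hxx, nRoots_conj, nRootsComm_conj g x₀ (by rw [← K.ext.comm_z, mul_inv_cancel_right])]
    exact R.rep_lt hc hx₀2 hx₀T
  · rw [hxx, nCent_conj, ← nCent_mul_orbit x₀]
    refine Nat.mul_le_mul_left _ ?_
    have hm : ∀ j : Fin 28, ∃ a, K.T (a * x₀ * a⁻¹) = D.val (c.L.getD j 0) := fun j =>
      R.conj_member hc hx₀T j (lt_of_lt_of_le j.2 hlen)
    choose a ha using hm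
    let φ : Fin 28 → {y : C // IsConj x₀ y} := fun j => ⟨a j * x₀ * (a j)⁻¹, isConj_iff.2 ⟨a j, rfl⟩⟩
    have hφ : Function.Injective φ := by
      intro j j' h
      have e : D.val (c.L.getD j 0) = D.val (c.L.getD j' 0) := by
        rw [← ha j, ← ha j']; exact congrArg (fun u : {y : C // IsConj x₀ y} => K.T u.1) h
      have hl : ((c.L.take 28).map D.val).length = 28 := by simp [hlen]
      refine Fin.ext ((hnd.getElem_inj_iff (hi := by rw [hl]; exact j.2) (hj := by rw [hl]; exact j'.2)).1 ?_)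
      rw [List.getD_eq_getElem _ _ (lt_of_lt_of_le j.2 hlen),
        List.getD_eq_getElem _ _ (lt_of_lt_of_le j'.2 hlen)] at e
      simpa using e
    simpa using Nat.card_le_card_of_injective φ hφ

theorem piece_facts :
    D.orb.Nodup ∧ D.orb.length = 14 ∧ ((List.range 128).filter D.inE).length = 16 ∧
    (∀ n < 128, D.inE n = true → n &&& 63 = 0 ∨ n ∈ D.orb) ∧
    (∀ n < 128, D.inE n = true →
      D.inE (ap cS n) = true ∧ D.inE (ap D.W n) = true ∧ D.inE (n ^^^ 64) = true ∧ qm n n = 0) ∧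
    (∀ n < 128, D.inE n = true → ∀ m < 128, D.inE m = true →
      D.inE (qm n m) = true ∧ qm n m = qm m n) ∧
    D.inE 64 = true ∧ D.inE 0 = true ∧
    (∀ n ∈ D.orb, n < 128 ∧ D.inE n = true) ∧
    ∀ i < 14, i ≠ 0 → D.orbP.getD i 0 / 8 < i ∧
      ap (D.gen (D.orbP.getD i 0 % 8)) (D.orb.getD (D.orbP.getD i 0 / 8) 0) = D.orb.getD i 0 := by
  have h := R.ok.piece
  simp only [Dat.pieceOK, Bool.and_eq_true, List.all_eq_true, List.mem_range, decide_eq_true_eq,
    beq_iff_eq, Bool.or_eq_true, Bool.not_eq_true', List.contains_iff_mem] at h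
  obtain ⟨⟨⟨⟨⟨⟨⟨⟨⟨a, b⟩, c⟩, d⟩, e⟩, f⟩, g⟩, k⟩, l⟩, m⟩ := h
  refine ⟨a, b, c, fun n hn hE => ?_, fun n hn hE => ?_, fun n hn hE j hj hjE => ?_, g, k, l,
    fun i hi h0 => (m i hi).resolve_left h0⟩
  · exact (d n hn).resolve_left (by simp [hE])
  · obtain ⟨⟨⟨x1, x2⟩, x3⟩, x4⟩ := (e n hn).resolve_left (by simp [hE])
    exact ⟨x1, x2, x3, x4⟩
  · exact ((f n hn).resolve_left (by simp [hE]) j hj).resolve_left (by simp [hjE])

/-- The piece as a subgroup. -/
theorem exists_piece [Finite C] : ∃ E : Subgroup C, (E : Set C) = piece K D ∧ E.Normal ∧ z ∈ E ∧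
    Nat.card E = 16 ∧ (∀ x ∈ E, x * x = 1) ∧ (∀ x ∈ E, ∀ y ∈ E, x * y = y * x) ∧
    (∀ x ∈ E, x ≠ 1 → x ≠ z → Nat.card {y : C // IsConj x y} ≤ 14) ∧
    (∀ x ∈ E, x ≠ 1 → x ≠ z → ∀ y ∈ E, y ≠ 1 → y ≠ z → IsConj x y) := by
  classical
  obtain ⟨-, ho14, hc16, hcov, hst, hmul, h64, h0, horb, hpar⟩ := R.piece_facts
  have hsq : ∀ x ∈ piece K D, x * x = 1 := by
    rintro x ⟨n, hn, hE, rfl⟩
    rw [← K.f_mul n hn n hn, (hst n hn hE).2.2.2, K.f_zero]
  let E : Subgroup C :=
    { carrier := piece K D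
      one_mem' := ⟨0, by omega, h0, K.f_zero⟩
      mul_mem' := by
        rintro a b ⟨n, hn, hE, rfl⟩ ⟨m, hm, hmE, rfl⟩
        exact ⟨qm n m, qm_lt hn hm, (hmul n hn hE m hm hmE).1, K.f_mul n hn m hm⟩
      inv_mem' := by
        intro a ha
        rwa [inv_eq_of_mul_eq_one_right (hsq a ha)] }
  have hnorm : ∀ g, ∀ x ∈ E, g * x * g⁻¹ ∈ E := by
    let N : Subgroup C := Subgroup.normalizer (E : Set C)
    have hin : ∀ g, (∀ x ∈ E, g * x * g⁻¹ ∈ E) → g ∈ N := fun g hg => by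
      rw [Subgroup.mem_normalizer_iff]
      intro x
      refine ⟨hg x, fun hx => ?_⟩
      have hb := (Set.toFinite (E : Set C)).surjOn_iff_bijOn_of_mapsTo (f := fun u => g * u * g⁻¹) hg
      obtain ⟨u, hu, e⟩ := ((Set.toFinite (E : Set C)).injOn_iff_bijOn_of_mapsTo hg).1
        (fun _ _ _ _ e => mul_left_cancel (mul_right_cancel e)) |>.surjOn hx
      rwa [← mul_left_cancel (mul_right_cancel e)]
    have hQN : Q ≤ N := fun q hq => hin q fun x ⟨n, hn, hE, e⟩ => by
      obtain ⟨b, hb⟩ := K.ext.inner_eqv hq (K.f_mem n hn)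
      subst e
      rw [hb]
      cases b
      · exact ⟨n, hn, hE, by simp [tp]⟩
      · exact ⟨n ^^^ 64, Nat.xor_lt_two_pow (n := 7) hn (by norm_num), (hst n hn hE).2.2.1, K.f_xor64 hn⟩
    have hsN : s ∈ N := hin s fun x ⟨n, hn, hE, e⟩ => by
      subst e
      exact ⟨ap cS n, ap_lt _ _, (hst n hn hE).1, by rw [K.conj_f s hn, R.s_T]⟩
    have hwN : w ∈ N := hin w fun x ⟨n, hn, hE, e⟩ => by
      subst e
      exact ⟨ap D.W n, ap_lt _ _, (hst n hn hE).2.1, by rw [K.conj_f w hn, R.w_T]⟩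
    intro g x hx
    have : g ∈ N := R.gen N hQN hsN hwN ▸ Subgroup.mem_top g
    exact (Subgroup.mem_normalizer_iff.1 this x).1 hx
  have hnontriv : ∀ n < 128, D.inE n = true → K.f n ≠ 1 → K.f n ≠ z → n ∈ D.orb := by
    intro n hn hE h1 h2
    refine (hcov n hn hE).resolve_left fun h => ?_
    have : ∀ n < 128, n &&& 63 = 0 → n = 0 ∨ n = 64 := by decide +kernel
    rcases this n hn h with rfl | rfl
    · exact h1 K.f_zero
    · exact h2 K.f_z
  have hzE : z ∈ E := ⟨64, by norm_num, h64, K.f_z⟩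
  refine ⟨E, rfl, ⟨fun x hx g => hnorm g x hx⟩, hzE, ?_, hsq, ?_, ?_, ?_⟩
  · haveI := Fintype.ofFinite E
    rw [Nat.card_eq_fintype_card]
    let L := ((List.range 128).filter D.inE).map K.f
    rw [Fintype.card_of_subtype L.toFinset fun x => ?_, List.toFinset_card_of_nodup, List.length_map, hc16]
    · exact (List.nodup_range.filter _).map_on fun a ha b hb e => K.f_inj a
        (List.mem_range.1 (List.mem_filter.1 ha).1) b (List.mem_range.1 (List.mem_filter.1 hb).1) e
    · simp only [L, List.mem_toFinset, List.mem_map, List.mem_filter, List.mem_range]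
      show _ ↔ x ∈ piece K D
      exact ⟨fun ⟨n, ⟨a, b⟩, e⟩ => ⟨n, a, b, e⟩, fun ⟨n, a, b, e⟩ => ⟨n, ⟨a, b⟩, e⟩⟩
  · rintro x ⟨n, hn, hE, rfl⟩ y ⟨m, hm, hmE, rfl⟩
    rw [← K.f_mul n hn m hm, ← K.f_mul m hm n hn, (hmul n hn hE m hm hmE).2]
  · intro x hx h1 h2
    haveI := Fintype.ofFinite C
    rw [Nat.card_eq_fintype_card, Fintype.card_subtype, ← ho14, ← List.length_map (f := K.f)]
    refine le_trans (Finset.card_le_card (t := (D.orb.map K.f).toFinset) fun y hy => ?_)
      (List.toFinset_card_le _)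
    obtain ⟨g, rfl⟩ := isConj_iff.1 (Finset.mem_filter.1 hy).2
    obtain ⟨m, hm, hmE, e⟩ := hnorm g x hx
    rw [← e]
    refine List.mem_toFinset.2 (List.mem_map.2 ⟨m, hnontriv m hm hmE ?_ ?_, rfl⟩) <;> rw [e]
    · exact fun h => h1 (conj_eq_one_iff.1 h)
    · intro h
      refine h2 ?_
      calc x = g⁻¹ * (g * x * g⁻¹) * g := by group
        _ = g⁻¹ * (z * g) := by rw [h]; group
        _ = z := by rw [K.ext.comm_z]; group
  · have key : ∀ i < 14, IsConj (K.f (D.orb.getD 0 0)) (K.f (D.orb.getD i 0)) := by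
      intro i
      induction i using Nat.strong_induction_on with
      | _ i ih =>
        intro hi
        by_cases hi0 : i = 0
        · rw [hi0]
        obtain ⟨hp, he⟩ := hpar i hi hi0
        obtain ⟨a, ha⟩ := R.gen_real (Nat.mod_lt (D.orbP.getD i 0) (show 8 > 0 by norm_num))
        refine (ih _ hp (hp.trans hi)).trans (isConj_iff.2 ⟨a, ?_⟩)
        rw [K.conj_f a, ha, he]
        refine (horb _ ?_).1
        rw [List.getD_eq_getElem _ _ (by omega)]
        exact List.getElem_mem _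
    have all : ∀ x ∈ E, x ≠ 1 → x ≠ z → IsConj (K.f (D.orb.getD 0 0)) x := by
      rintro x ⟨n, hn, hE, rfl⟩ h1 h2
      obtain ⟨i, hi, he⟩ := List.getElem_of_mem (hnontriv n hn hE h1 h2)
      have := key i (by omega)
      rwa [List.getD_eq_getElem _ _ hi, he] at this
    exact fun x hx a b y hy c d => (all x hx a b).symm.trans (all y hy c d)

end Real

end CfsgLib.HeldMod
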