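import Cfsg.Agent.HeldU.Module.Setup

/-!
# The involution modulo the subgroup takes one of three shapes
-/

set_option autoImplicit false
set_option linter.unusedSectionVars false
set_option maxRecDepth 4000

namespace CfsgLib.HeldMod

/-- The square of the element of order seven modulo the centre. -/
def cS2 : ℕ := mcmp cS cS

/-- The powers of the element of order seven modulo the centre. -/
def sPow : ℕ → ℕ
  | 0 => one
  | k + 1 => mcmp (sPow k) cS

/-- The element of order three. -/
def cR : ℕ := pack fun i => [1, 4, 6, 8, 48, 16].getD i 0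

/-- The shape preserving both pieces. -/
def cW0 : ℕ := pack fun i => [1, 4, 2, 8, 32, 16].getD i 0

/-- The shape preserving the first piece only. -/
def cW1 : ℕ := pack fun i => [1, 4, 2, 8, 34, 20].getD i 0

/-- The shape preserving the second piece only. -/
def cW2 : ℕ := pack fun i => [1, 20, 34, 8, 32, 16].getD i 0

/-- A candidate for the element of order three. -/
def candR (x y : ℕ) : ℕ :=
  pack fun i => [x, lap cS2 x, lap cS2 (lap cS2 x), y, y ^^^ lap cS2 y,
    lap cS2 (y ^^^ lap cS2 y)].getD i 0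

/-- A candidate for the involution. -/
def candW (x y u v : ℕ) : ℕ :=
  pack fun i => [x, u, lap (mcmp cR cR) u, y, v, v ^^^ lap (mcmp cR cR) v].getD i 0

theorem candR_all : ((List.range 64).all fun x => (List.range 64).all fun y =>
    !(orth (candR x y)) ||
      (List.range 7).any fun k => mcmp (mcmp (sPow k) (candR x y)) (sPow ((7 - k) % 7)) == cR) = true := by
  decide +kernel

theorem fix_all : ((List.range 64).all fun x =>
    !(lap (mcmp cR cR) x == x) || [0, 1, 8, 9].contains x) = true := by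
  decide +kernel

/-- A cheap necessary condition. -/
def preW (x y u v : ℕ) : Bool :=
  !(beta x x) && !(beta y y) && bf y x && !(beta u u) && !(bf u x) && !(beta v v) && !(bf v y) &&
    !(bf v x) && !(bf u y) && (bf v u == bf 16 2)

set_option maxHeartbeats 4000000 in
theorem candW_all : ([0, 1, 8, 9].all fun x => [0, 1, 8, 9].all fun y =>
    (List.range 64).all fun u => (List.range 64).all fun v =>
      !(preW x y u v) ||
        let W := candW x y u v
        !(orth W) || !(mcmp W W == one) || !(mcmp (mcmp (mcmp cS W) (mcmp cS W)) (mcmp cS W) == one) ||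
          W == cW0 || W == cW1 || W == cW2) = true := by
  decide +kernel

theorem sPow_seven : sPow 7 = one ∧ mcmp cR (mcmp cR cR) = one ∧ mproj cS = cS := by decide +kernel

theorem beta_and63 : ((List.range 128).all fun a => (List.range 128).all fun b =>
    beta (a &&& 63) (b &&& 63) == beta a b) = true := by
  decide +kernel

theorem adjW_all : ([cW0, cW1, cW2].all fun W => (List.range 64).all fun e => (List.range 128).any fun n =>
    cmp (inn n) (pack fun i => get W i ^^^ b64 (e.testBit i)) == W) = true := by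
  decide +kernel

theorem one_inn_all : ((List.range 64).all fun e => (List.range 128).any fun n =>
    inn n == pack fun i => get one i ^^^ b64 (e.testBit i)) = true := by
  decide +kernel

theorem lift_bits : ((List.range 128).all fun v => (v &&& 63) ^^^ b64 (v.testBit 6) == v) = true := by
  decide +kernel

theorem orth_mproj {T : ℕ} (h : orth T = true) : orth (mproj T) = true := by
  have hb : ∀ i j, i < 6 → j < 6 →
      beta (get (mproj T) i) (get (mproj T) j) = beta (get T i) (get T j) := fun i j hi hj => by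
    rw [get_mproj T hi, get_mproj T hj]
    exact beq_iff_eq.1 (List.all_eq_true.1 (List.all_eq_true.1 beta_and63 _
      (List.mem_range.2 (get_lt T i))) _ (List.mem_range.2 (get_lt T j)))
  rw [orth, List.all_eq_true] at h ⊢
  intro i hi
  have h1 := h i hi
  have hi := List.mem_range.1 hi
  simp only [Bool.and_eq_true, List.all_eq_true, List.mem_range] at h1 ⊢
  refine ⟨by rw [hb i i hi hi]; exact h1.1, fun j hj => ?_⟩
  have h2 := h1.2 j hj
  simp only [bf, hb i j hi (hj.trans hi), hb j i (hj.trans hi) hi] at h2 ⊢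
  exact h2

theorem exists_bits (c : ℕ → Bool) : ∃ m < 64, ∀ i < 6, m.testBit i = c i := by
  have hlt : ∀ a b d e f g : Bool,
      let m := a.toNat + 2 * b.toNat + 4 * d.toNat + 8 * e.toNat + 16 * f.toNat + 32 * g.toNat
      (decide (m < 64) && (m.testBit 0 == a) && (m.testBit 1 == b) && (m.testBit 2 == d) &&
        (m.testBit 3 == e) && (m.testBit 4 == f) && (m.testBit 5 == g)) = true := by
    decide +kernel
  have hm' := hlt (c 0) (c 1) (c 2) (c 3) (c 4) (c 5)
  simp only [Bool.and_eq_true, decide_eq_true_eq, beq_iff_eq] at hm'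
  obtain ⟨⟨⟨⟨⟨⟨hm, h0⟩, h1⟩, h2⟩, h3⟩, h4⟩, h5⟩ := hm'
  exact ⟨_, hm, fun i hi => by interval_cases i <;> assumption⟩

variable {C : Type*} [Group C] {z : C} {Q : Subgroup C} (K : Chart z Q)

theorem Chart.exists_lift (c : C) :
    ∃ e < 64, K.T c = pack fun i => get (K.MM c) i ^^^ b64 (e.testBit i) := by
  obtain ⟨e, he, hb⟩ := exists_bits fun i => (get (K.T c) i).testBit 6
  refine ⟨e, he, ?_⟩
  conv_lhs => rw [Chart.T]
  refine pack_congr fun i hi => ?_
  rw [hb i hi, Chart.MM, get_mproj _ hi]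
  show K.code (c * K.f (1 <<< i) * c⁻¹) = _
  have hg : get (K.T c) i = K.code (c * K.f (1 <<< i) * c⁻¹) := get_pack (fun _ _ => K.code_lt _) hi
  rw [hg]
  exact (beq_iff_eq.1 (List.all_eq_true.1 lift_bits _ (List.mem_range.2 (K.code_lt _)))).symm

theorem Chart.mem_of_MM {c : C} (h : K.MM c = one) : c ∈ Q := by
  obtain ⟨e, he, hT⟩ := K.exists_lift c
  obtain ⟨n, hn, hn'⟩ := List.any_eq_true.1 (List.all_eq_true.1 one_inn_all e (List.mem_range.2 he))
  rw [h, ← beq_iff_eq.1 hn', ← K.T_inn (List.mem_range.1 hn)] at hT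
  rcases K.eq_of_T_eq hT.symm with e' | e' <;> rw [e']
  · exact K.f_mem n (List.mem_range.1 hn)
  · exact mul_mem K.ext.mem_z (K.f_mem n (List.mem_range.1 hn))

theorem Chart.MM_eq_of_mem {c d : C} (h : c * d⁻¹ ∈ Q) : K.MM c = K.MM d := by
  obtain ⟨e, -, hT⟩ := K.exists_lift d
  rw [show c = c * d⁻¹ * d by group, K.MM_mul, K.MM_mem h]
  refine (pack_congr fun i hi => ?_).trans (?_ : pack (fun i => get (K.MM d) i) = K.MM d)
  · have : ∀ v < 64, lap one v = v := by decide +kernel
    refine this _ ?_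
    rw [Chart.MM, get_mproj _ hi]
    exact lt_of_le_of_lt Nat.and_le_right (by omega)
  · exact pack_get fun i _ => lt_of_le_of_lt Nat.and_le_right (by omega)

/-- Some involution modulo the subgroup has one of three standard shapes. -/
theorem normalise {s r w : C} (hg : Gens K s r w) :
    ∃ w' : C, (K.T w' = cW0 ∨ K.T w' = cW1 ∨ K.T w' = cW2) ∧
      ∀ H : Subgroup C, Q ≤ H → s ∈ H → w' ∈ H → H = ⊤ := by
  haveI := K.ext.normal
  have hS : K.MM s = cS := by rw [Chart.MM, hg.s_T, sPow_seven.2.2]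
  have hpow : ∀ k, K.MM (s ^ k) = sPow k := by
    intro k
    induction k with
    | zero => rw [pow_zero, K.MM_mem (one_mem Q)]; rfl
    | succ k ih => rw [pow_succ, K.MM_mul, ih, hS]; rfl
  have h7 : s ^ 7 ∈ Q := K.mem_of_MM (by rw [hpow, sPow_seven.1])
  -- the element of order three
  have hR : K.MM r = candR (get (K.MM r) 0) (get (K.MM r) 3) := by
    have e : mcmp (K.MM r) cS = mcmp cS2 (K.MM r) := by
      have h := K.MM_eq_of_mem (c := r * s) (d := s * s * r) hg.rs
      rwa [K.MM_mul, K.MM_mul, K.MM_mul, hS] at h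
    have ei : ∀ i < 6, lap (K.MM r) (get cS i) = lap cS2 (get (K.MM r) i) := fun i hi => by
      have := congrArg (get · i) e
      simpa only [get_mcmp _ _ hi] using this
    have hm : ∀ i < 6, get (K.MM r) i &&& 63 = get (K.MM r) i := fun i hi => by
      rw [Chart.MM, get_mproj _ hi, Nat.and_assoc]; rfl
    have e0 := ei 0 (by omega)
    have e1 := ei 1 (by omega)
    have e3 := ei 3 (by omega)
    have e4 := ei 4 (by omega)
    have p0 : lap (K.MM r) (get cS 0) = 0 ^^^ (get (K.MM r) 1 &&& 63) := rfl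
    have p1 : lap (K.MM r) (get cS 1) = 0 ^^^ (get (K.MM r) 2 &&& 63) := rfl
    have p3 : lap (K.MM r) (get cS 3) =
        0 ^^^ (get (K.MM r) 3 &&& 63) ^^^ (get (K.MM r) 4 &&& 63) := rfl
    have p4 : lap (K.MM r) (get cS 4) = 0 ^^^ (get (K.MM r) 5 &&& 63) := rfl
    rw [p0, Nat.zero_xor, hm 1 (by omega)] at e0
    rw [p1, Nat.zero_xor, hm 2 (by omega), e0] at e1
    rw [p3, Nat.zero_xor, hm 3 (by omega), hm 4 (by omega)] at e3
    have e3' : get (K.MM r) 4 = get (K.MM r) 3 ^^^ lap cS2 (get (K.MM r) 3) := by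
      rw [← e3, ← Nat.xor_assoc, Nat.xor_self, Nat.zero_xor]
    rw [p4, Nat.zero_xor, hm 5 (by omega), e3'] at e4
    conv_lhs => rw [Chart.MM, mproj]
    refine pack_congr fun i hi => ?_
    show get (K.T r) i &&& 63 = _
    rw [← get_mproj _ hi]
    interval_cases i
    · rfl
    · exact e0
    · exact e1
    · rfl
    · exact e3'
    · exact e4
  have hlt : ∀ (c : C) i, i < 6 → get (K.MM c) i < 64 := fun c i hi => by
    rw [Chart.MM, get_mproj _ hi]; exact lt_of_le_of_lt Nat.and_le_right (by omega)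
  have hor : ∀ c : C, orth (K.MM c) = true := fun c => orth_mproj (K.orth_T c)
  have h := List.all_eq_true.1 (List.all_eq_true.1 candR_all _ (List.mem_range.2 (hlt r 0 (by omega)))) _
    (List.mem_range.2 (hlt r 3 (by omega)))
  rw [← hR, hor r, Bool.not_true, Bool.false_or, List.any_eq_true] at h
  obtain ⟨k, hk, hk'⟩ := h
  have hk := List.mem_range.1 hk
  obtain ⟨p, hp⟩ : ∃ p, p = s ^ k := ⟨_, rfl⟩
  have hpi : K.MM p⁻¹ = sPow ((7 - k) % 7) := by
    rcases Nat.eq_zero_or_pos k with rfl | hk0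
    · simp only [hp, pow_zero, inv_one]; exact K.MM_mem (one_mem Q)
    · rw [Nat.mod_eq_of_lt (by omega), ← hpow]
      refine K.MM_eq_of_mem ?_
      have : p⁻¹ * (s ^ (7 - k))⁻¹ = (s ^ 7)⁻¹ := by
        rw [show s ^ 7 = s ^ (7 - k) * p by rw [hp, ← pow_add, Nat.sub_add_cancel (by omega)], mul_inv_rev]
      rw [this]; exact inv_mem h7
  have hR0 : K.MM (p * r * p⁻¹) = cR := by
    rw [K.MM_mul, K.MM_mul, hpi, hp, hpow]; exact beq_iff_eq.1 hk'
  have cj : ∀ {x : C}, x ∈ Q → p * x * p⁻¹ ∈ Q := fun hx => K.ext.normal.conj_mem _ hx p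
  obtain ⟨v, hv⟩ : ∃ v, v = p * w * p⁻¹ := ⟨_, rfl⟩
  obtain ⟨q, hq⟩ : ∃ q, q = p * r * p⁻¹ := ⟨_, rfl⟩
  rw [← hq] at hR0
  have hvv : K.MM (v * v) = one := K.MM_mem (by
    rw [show v * v = p * (w * w) * p⁻¹ by rw [hv]; group]; exact cj hg.ww)
  have hsv : K.MM (s * v * (s * v) * (s * v)) = one := K.MM_mem (by
    have e : s * v = p * (s * w) * p⁻¹ := by
      rw [hv, hp]
      calc s * (s ^ k * w * (s ^ k)⁻¹) = s * s ^ k * w * (s ^ k)⁻¹ := by group
        _ = s ^ k * s * w * (s ^ k)⁻¹ := by rw [← pow_succ', ← pow_succ]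
        _ = _ := by group
    rw [e, show p * (s * w) * p⁻¹ * (p * (s * w) * p⁻¹) * (p * (s * w) * p⁻¹) =
      p * (s * w * (s * w) * (s * w)) * p⁻¹ by group]
    exact cj hg.sw)
  have hvq : K.MM (v * q) = K.MM (q * q * v) := by
    refine K.MM_eq_of_mem ?_
    have h3 : q * (q * q) ∈ Q := K.mem_of_MM (by rw [K.MM_mul, K.MM_mul, hR0, sPow_seven.2.1])
    have h1 : v * q * v * q ∈ Q := by
      rw [show v * q * v * q = p * (w * r * w * r) * p⁻¹ by rw [hv, hq]; group]; exact cj hg.wr
    have h2 : v * v ∈ Q := K.mem_of_MM hvv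
    rw [← QuotientGroup.eq_one_iff] at h1 h2 h3 ⊢
    simp only [QuotientGroup.mk_mul, QuotientGroup.mk_inv] at h1 h2 h3 ⊢
    generalize (v : C ⧸ Q) = a at h1 h2 ⊢
    generalize (q : C ⧸ Q) = b at h1 h3 ⊢
    have ha : a⁻¹ = a := inv_eq_of_mul_eq_one_right h2
    calc a * b * (b * b * a)⁻¹ = a * b * a⁻¹ * b * (b⁻¹ * (b⁻¹ * b⁻¹)) := by group
      _ = (a * b * a * b) * (b * (b * b))⁻¹ := by rw [ha]; group
      _ = 1 := by rw [h1, h3]; group
  rw [K.MM_mul, K.MM_mul, K.MM_mul, hR0] at hvq
  rw [K.MM_mul] at hvv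
  rw [K.MM_mul, K.MM_mul, K.MM_mul, hS] at hsv
  have ei : ∀ i < 6, lap (K.MM v) (get cR i) = lap (mcmp cR cR) (get (K.MM v) i) := fun i hi => by
    have := congrArg (get · i) hvq
    simpa only [get_mcmp _ _ hi] using this
  have hm : ∀ i < 6, get (K.MM v) i &&& 63 = get (K.MM v) i := fun i hi => by
    rw [Chart.MM, get_mproj _ hi, Nat.and_assoc]; rfl
  have e0 := ei 0 (by omega)
  have e1 := ei 1 (by omega)
  have e3 := ei 3 (by omega)
  have e4 := ei 4 (by omega)
  have p0 : lap (K.MM v) (get cR 0) = 0 ^^^ (get (K.MM v) 0 &&& 63) := rfl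
  have p1 : lap (K.MM v) (get cR 1) = 0 ^^^ (get (K.MM v) 2 &&& 63) := rfl
  have p3 : lap (K.MM v) (get cR 3) = 0 ^^^ (get (K.MM v) 3 &&& 63) := rfl
  have p4 : lap (K.MM v) (get cR 4) =
      0 ^^^ (get (K.MM v) 4 &&& 63) ^^^ (get (K.MM v) 5 &&& 63) := rfl
  rw [p0, Nat.zero_xor, hm 0 (by omega)] at e0
  rw [p1, Nat.zero_xor, hm 2 (by omega)] at e1
  rw [p3, Nat.zero_xor, hm 3 (by omega)] at e3
  rw [p4, Nat.zero_xor, hm 4 (by omega), hm 5 (by omega)] at e4
  have hx := List.all_eq_true.1 fix_all _ (List.mem_range.2 (hlt v 0 (by omega)))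
  have hy := List.all_eq_true.1 fix_all _ (List.mem_range.2 (hlt v 3 (by omega)))
  rw [← e0, beq_self_eq_true, Bool.not_true, Bool.false_or, List.contains_iff_mem] at hx
  rw [← e3, beq_self_eq_true, Bool.not_true, Bool.false_or, List.contains_iff_mem] at hy
  have hW : K.MM v =
      candW (get (K.MM v) 0) (get (K.MM v) 3) (get (K.MM v) 1) (get (K.MM v) 4) := by
    have e5 : get (K.MM v) 5 = get (K.MM v) 4 ^^^ lap (mcmp cR cR) (get (K.MM v) 4) := by
      rw [← e4, ← Nat.xor_assoc, Nat.xor_self, Nat.zero_xor]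
    conv_lhs => rw [Chart.MM, mproj]
    refine pack_congr fun i hi => ?_
    show get (K.T v) i &&& 63 = _
    rw [← get_mproj _ hi]
    interval_cases i
    · rfl
    · rfl
    · exact e1
    · rfl
    · rfl
    · exact e5
  have h := List.all_eq_true.1 (List.all_eq_true.1 (List.all_eq_true.1 (List.all_eq_true.1 candW_all _ hx)
    _ hy) _ (List.mem_range.2 (hlt v 1 (by omega)))) _ (List.mem_range.2 (hlt v 4 (by omega)))
  simp only at h
  have hpre : preW (get (K.MM v) 0) (get (K.MM v) 3) (get (K.MM v) 1) (get (K.MM v) 4) = true := by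
    have ho := hor v
    simp only [orth, List.all_eq_true, List.mem_range, Bool.and_eq_true, Bool.not_eq_true',
      beq_iff_eq] at ho
    have a0 := (ho 0 (by omega)).1
    have a1 := (ho 1 (by omega)).1
    have a3 := (ho 3 (by omega)).1
    have a4 := (ho 4 (by omega)).1
    have b10 := (ho 1 (by omega)).2 0 (by omega)
    have b30 := (ho 3 (by omega)).2 0 (by omega)
    have b31 := (ho 3 (by omega)).2 1 (by omega)
    have b40 := (ho 4 (by omega)).2 0 (by omega)
    have b41 := (ho 4 (by omega)).2 1 (by omega)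
    have b43 := (ho 4 (by omega)).2 3 (by omega)
    have hsym : ∀ a b : ℕ, bf a b = bf b a := fun a b => by simp [bf, Bool.xor_comm]
    simp only [preW, a0, a1, a3, a4, b10, b30, b40, b41, b43,
      hsym (get (K.MM v) 1) (get (K.MM v) 3), b31]
    decide
  rw [← hW, hpre, hor v, hvv, hsv] at h
  simp only [beq_self_eq_true, Bool.not_true, Bool.false_or, Bool.or_eq_true, beq_iff_eq] at h
  obtain ⟨e, he, hT⟩ := K.exists_lift v
  have hmem : K.MM v ∈ [cW0, cW1, cW2] := by
    rcases h with (h | h) | h <;> simp [h]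
  obtain ⟨n, hn, hn'⟩ := List.any_eq_true.1 (List.all_eq_true.1 (List.all_eq_true.1 adjW_all _ hmem) e
    (List.mem_range.2 he))
  rw [← hT] at hn'
  have hn := List.mem_range.1 hn
  refine ⟨K.f n * v, ?_, fun H hQ hs hw => hg.gen H hQ hs ?_⟩
  · rw [K.T_mul, K.T_inn hn, beq_iff_eq.1 hn']
    rcases h with (h | h) | h
    · exact Or.inl h
    · exact Or.inr (Or.inl h)
    · exact Or.inr (Or.inr h)
  · have hvH : v ∈ H := by simpa using mul_mem (inv_mem (hQ (K.f_mem n hn))) hw
    have : w = p⁻¹ * v * p := by rw [hv]; group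
    rw [this, hp]
    exact mul_mem (mul_mem (inv_mem (pow_mem hs k)) hvH) (pow_mem hs k)

end CfsgLib.HeldMod
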