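import Cfsg.Agent.HeldU.Module.Cycle
import Cfsg.Agent.Classical.Transvections
import Cfsg.Prelude.Def_Transfer

/-!
# Codes and three elements from a centraliser of shape `2^(1+6).L3(2)`
-/

set_option autoImplicit false
set_option linter.unusedSectionVars false

open scoped commutatorElement

namespace CfsgLib.HeldMod

/-- `SL(3,2)`. -/
abbrev L32 := Matrix.SpecialLinearGroup (Fin 3) (ZMod 2)

/-- An element of order seven. -/
def g7 : L32 := ⟨!![0, 0, 1; 1, 0, 1; 0, 1, 0], by decide +kernel⟩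

/-- An element of order three squaring it. -/
def r3 : L32 := ⟨!![0, 0, 1; 0, 1, 0; 1, 1, 1], by decide +kernel⟩

/-- An involution inverting the latter. -/
def w2 : L32 := ⟨!![1, 0, 0; 0, 1, 0; 1, 1, 1], by decide +kernel⟩

theorem l32_rel : g7 * (g7 * (g7 * (g7 * (g7 * (g7 * g7))))) = 1 ∧ g7 ≠ 1 ∧
    r3 * g7 = g7 * g7 * r3 ∧ w2 * w2 = 1 ∧ w2 * r3 * w2 * r3 = 1 ∧
    g7 * w2 * (g7 * w2) * (g7 * w2) = 1 ∧ g7 * w2 ≠ 1 := by
  decide +kernel

theorem l32_four :
    let c := g7 * w2 * ((g7 * (g7 * (g7 * (g7 * (g7 * g7))))) * w2)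
    c * c ≠ 1 ∧ c * c * (c * c) = 1 := by
  decide +kernel

theorem l32_card : Nat.card L32 = 168 := by
  rw [Nat.card_eq_fintype_card]; decide +kernel

theorem l32_simple : IsSimpleGroup L32 := by
  haveI := CfsgLib.Linear.isSimpleGroup_PSL (ι := Fin 3) (F := ZMod 2) (Or.inl (by simp))
  have hbot : Subgroup.center L32 = ⊥ := by
    rw [eq_bot_iff]
    intro g hg
    obtain ⟨r, hr, hgr⟩ := Matrix.SpecialLinearGroup.mem_center_iff.1 hg
    have hr1 : r = 1 := (show ∀ r : ZMod 2, r ^ 3 = 1 → r = 1 by decide +revert) r (by simpa using hr)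
    rw [Subgroup.mem_bot]
    refine Subtype.ext ?_
    rw [← hgr, hr1, map_one]; rfl
  exact ((QuotientGroup.quotientMulEquivOfEq hbot).trans QuotientGroup.quotientBot).symm.isSimpleGroup

/-- `g7` and `w2` generate. -/
theorem l32_gen {H : Subgroup L32} (h1 : g7 ∈ H) (h2 : w2 ∈ H) : H = ⊤ := by
  have o7 : orderOf g7 = 7 := by
    haveI : Fact (Nat.Prime 7) := ⟨by norm_num⟩
    refine orderOf_eq_prime ?_ l32_rel.2.1
    rw [← l32_rel.1]; simp only [pow_succ, pow_zero, one_mul, mul_assoc]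
  have o3 : orderOf (g7 * w2) = 3 := by
    haveI : Fact (Nat.Prime 3) := ⟨by norm_num⟩
    refine orderOf_eq_prime ?_ l32_rel.2.2.2.2.2.2
    rw [← l32_rel.2.2.2.2.2.1]; simp only [pow_succ, pow_zero, one_mul, mul_assoc]
  obtain ⟨c, hc, o4⟩ : ∃ c ∈ H, orderOf c = 4 := by
    refine ⟨g7 * w2 * ((g7 * (g7 * (g7 * (g7 * (g7 * g7))))) * w2), ?_, ?_⟩
    · exact mul_mem (mul_mem h1 h2)
        (mul_mem (mul_mem h1 (mul_mem h1 (mul_mem h1 (mul_mem h1 (mul_mem h1 h1))))) h2)
    · have h := l32_four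
      simp only at h
      generalize g7 * w2 * ((g7 * (g7 * (g7 * (g7 * (g7 * g7))))) * w2) = c at h ⊢
      haveI : Fact (Nat.Prime 2) := ⟨by norm_num⟩
      refine orderOf_eq_prime_pow (p := 2) (n := 1) ?_ ?_
      · rw [show (2 : ℕ) ^ 1 = 2 from rfl, pow_two]; exact h.1
      · rw [show (2 : ℕ) ^ (1 + 1) = 4 from rfl, show c ^ 4 = c * c * (c * c) by simp only [pow_succ, pow_zero, one_mul, mul_assoc]]; exact h.2
  have hdvd : ∀ x ∈ H, orderOf x ∣ Nat.card H := fun x hx => by
    rw [← Subgroup.orderOf_mk x hx]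
    exact orderOf_dvd_natCard _
  have d7 := o7 ▸ hdvd g7 h1
  have d3 := o3 ▸ hdvd _ (mul_mem h1 h2)
  have d4 := o4 ▸ hdvd c hc
  have d84 : 84 ∣ Nat.card H := by omega
  have hi := H.index_mul_card
  rw [l32_card] at hi
  obtain ⟨m, hm⟩ := d84
  rw [hm] at hi
  have hi' : H.index * m = 2 := by
    have : 84 * (H.index * m) = 84 * 2 := by rw [← mul_assoc, mul_comm 84, mul_assoc]; exact hi
    omega
  have hcases : H.index = 1 ∨ H.index = 2 := by
    have := Nat.le_of_dvd (by norm_num) (Dvd.intro _ hi')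
    have : H.index ≠ 0 := Subgroup.index_ne_zero_of_finite
    omega
  rcases hcases with h | h
  · exact Subgroup.index_eq_one.1 h
  · haveI := l32_simple
    rcases (Subgroup.normal_of_index_eq_two h).eq_bot_or_eq_top with e | e
    · rw [e, Subgroup.index_bot, l32_card] at h; omega
    · exact e

/-- What the codes and three elements satisfy. -/
structure Gens {C : Type*} [Group C] {z : C} {Q : Subgroup C} (K : Chart z Q) (s r w : C) : Prop where
  s_T : K.T s = cS
  rs : r * s * (s * s * r)⁻¹ ∈ Q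
  ww : w * w ∈ Q
  wr : w * r * w * r ∈ Q
  sw : s * w * (s * w) * (s * w) ∈ Q
  gen : ∀ H : Subgroup C, Q ≤ H → s ∈ H → w ∈ H → H = ⊤

/-- The hypotheses on the centraliser give codes. -/
theorem exists_gens {G : Type*} [Group G] [Finite G] {t : G} (ht : orderOf t = 2)
    (Q : Subgroup (Subgroup.centralizer ({t} : Set G))) [Q.Normal] (hQ : Cfsg.IsExtraspecial 2 Q)
    (hcard : Nat.card Q = 2 ^ 7)
    (h2c : Subgroup.centralizer (Q : Set (Subgroup.centralizer ({t} : Set G))) ≤ Q)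
    (e : (Subgroup.centralizer ({t} : Set G)) ⧸ Q ≃* Matrix.SpecialLinearGroup (Fin 3) (ZMod 2)) :
    ∃ (K : Chart (⟨t, Subgroup.mem_centralizer_singleton_iff.2 rfl⟩ :
        Subgroup.centralizer ({t} : Set G)) Q) (s r w : _), Gens K s r w := by
  classical
  set z : Subgroup.centralizer ({t} : Set G) := ⟨t, Subgroup.mem_centralizer_singleton_iff.2 rfl⟩
  have hz : ∀ c, z * c = c * z := fun c =>
    Subtype.ext (Subgroup.mem_centralizer_singleton_iff.1 c.2).symm
  have hzQ : z ∈ Q := h2c (Subgroup.mem_centralizer_iff.2 fun x _ => (hz x).symm)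
  have hne : z ≠ 1 := fun h => by
    have := congrArg Subtype.val h
    simp only [z, Subgroup.coe_one] at this
    rw [this, orderOf_one] at ht
    norm_num at ht
  have hzz : z * z = 1 := Subtype.ext (by
    show t * t = 1
    rw [← sq, ← ht]; exact pow_orderOf_eq_one t)
  obtain ⟨⟨-, -, hcomm⟩, hcen⟩ := hQ
  have hcz : ∀ x : Q, x ∈ Subgroup.center Q → (x : Subgroup.centralizer ({t} : Set G)) = 1 ∨ x = z := by
    intro x hx
    haveI := Fintype.ofFinite (Subgroup.center Q)
    have hzc : (⟨z, hzQ⟩ : Q) ∈ Subgroup.center Q :=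
      Subgroup.mem_center_iff.2 fun y => Subtype.ext (hz _).symm
    by_contra h
    push Not at h
    have h3 : 2 < Nat.card (Subgroup.center Q) := by
      rw [Nat.card_eq_fintype_card]
      refine Fintype.two_lt_card_iff.2 ⟨1, ⟨⟨z, hzQ⟩, hzc⟩, ⟨x, hx⟩, ?_, ?_, ?_⟩
      · exact fun e => hne (congrArg (fun u : Subgroup.center Q =>
          (((u : Q)) : Subgroup.centralizer ({t} : Set G))) e).symm
      · exact fun e => h.1 (congrArg (fun u : Subgroup.center Q =>
          (((u : Q)) : Subgroup.centralizer ({t} : Set G))) e).symm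
      · exact fun e => h.2 (congrArg (fun u : Subgroup.center Q =>
          (((u : Q)) : Subgroup.centralizer ({t} : Set G))) e).symm
    omega
  have hc2 : ∀ x ∈ Q, ∀ y ∈ Q, x * y = y * x ∨ x * y = z * (y * x) := by
    intro x hx y hy
    have h : ⁅(⟨x, hx⟩ : Q), ⟨y, hy⟩⁆ ∈ Subgroup.center Q := by
      rw [← hcomm]
      exact Subgroup.commutator_mem_commutator (Subgroup.mem_top _) (Subgroup.mem_top _)
    rcases hcz _ h with e | e
    · left
      simp only [commutatorElement_def, Subgroup.coe_mul, Subgroup.coe_inv] at e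
      calc x * y = x * y * x⁻¹ * y⁻¹ * (y * x) := by group
        _ = _ := by rw [e, one_mul]
    · right
      simp only [commutatorElement_def, Subgroup.coe_mul, Subgroup.coe_inv] at e
      calc x * y = x * y * x⁻¹ * y⁻¹ * (y * x) := by group
        _ = _ := by rw [e]
  have E : Ext z Q :=
    { ne := hne, sq_z := hzz, comm_z := hz, mem_z := hzQ, normal := inferInstance
      comm := hc2
      sq := fun x hx => by
        refine hcz ⟨x * x, mul_mem hx hx⟩ (Subgroup.mem_center_iff.2 fun y => Subtype.ext ?_)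
        show (y : Subgroup.centralizer ({t} : Set G)) * (x * x) = x * x * y
        rcases hc2 x hx y y.2 with e | e
        · rw [mul_assoc x x, e, ← mul_assoc x, e, mul_assoc]
        · calc (y : Subgroup.centralizer ({t} : Set G)) * (x * x) = z * z * (y * x * x) := by
                rw [hzz, one_mul, mul_assoc]
            _ = z * (z * (y * x)) * x := by group
            _ = z * (x * y) * x := by rw [← e]
            _ = x * z * (y * x) := by rw [← hz x]; group
            _ = x * (x * y) := by rw [e]; group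
            _ = _ := by group
      card := by rw [hcard]; norm_num
      cent := fun c hc => by
        have hcQ : c ∈ Q := h2c (Subgroup.mem_centralizer_iff.2 fun x hx => (hc x hx).symm)
        exact hcz ⟨c, hcQ⟩ (Subgroup.mem_center_iff.2 fun y => Subtype.ext (hc y y.2).symm) }
  let π : Subgroup.centralizer ({t} : Set G) →* L32 := e.toMonoidHom.comp (QuotientGroup.mk' Q)
  have hπ : ∀ x, π x = 1 ↔ x ∈ Q := fun x => by
    show e (QuotientGroup.mk' Q x) = 1 ↔ _
    rw [EmbeddingLike.map_eq_one_iff, QuotientGroup.mk'_apply, QuotientGroup.eq_one_iff]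
  have hsurj : Function.Surjective π := fun x => by
    obtain ⟨c, hc⟩ := QuotientGroup.mk'_surjective Q (e.symm x)
    exact ⟨c, by show e (QuotientGroup.mk' Q c) = x; rw [hc, MulEquiv.apply_symm_apply]⟩
  obtain ⟨s₀, hs₀⟩ := hsurj g7
  obtain ⟨r, hr⟩ := hsurj r3
  obtain ⟨w, hw⟩ := hsurj w2
  obtain ⟨r1, r2, r3', r4, r5, r6, -⟩ := l32_rel
  have p7 : g7 ^ 7 = 1 := by rw [← r1]; simp only [pow_succ, pow_zero, one_mul, mul_assoc]
  have h7 : s₀ ^ 7 ∈ Q := (hπ _).1 (by rw [map_pow, hs₀, p7])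
  have hnQ : s₀ ∉ Q := fun h => r2 (by rw [← hs₀]; exact (hπ _).2 h)
  obtain ⟨y, hy, hy1, hyz, hrel⟩ := E.exists_cubic h7 hnQ
  -- `u` is `s₀` or its inverse
  obtain ⟨u, hu, K, n, hn, hK⟩ : ∃ u, (u = s₀ ∨ u = s₀⁻¹) ∧
      ∃ K : Chart z Q, ∃ n < 128, K.T (K.f n * u) = cS := by
    rcases hrel with h | h
    · exact ⟨s₀, Or.inl rfl, chart_of_cubic E h7 hy hy1 hyz h⟩
    · exact ⟨s₀⁻¹, Or.inr rfl,
        chart_of_cubic E (by rw [inv_pow]; exact inv_mem h7) hy hy1 hyz h⟩
  have hfn : π (K.f n) = 1 := (hπ _).2 (K.f_mem n hn)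
  have hs : π (K.f n * u) = π u := by rw [map_mul, hfn, one_mul]
  have key : (π u = g7 ∨ π u = g7⁻¹) := by
    rcases hu with rfl | rfl
    · exact Or.inl hs₀
    · exact Or.inr (by rw [map_inv, hs₀])
  refine ⟨K, K.f n * u, r, w, ⟨hK, (hπ _).1 ?_, (hπ _).1 ?_, (hπ _).1 ?_, (hπ _).1 ?_, ?_⟩⟩
  · simp only [map_mul, map_inv, hr, hfn, one_mul]
    rw [mul_inv_eq_one]
    rcases key with h | h <;> rw [h]
    · exact r3'
    · calc r3 * g7⁻¹ = (g7 * g7)⁻¹ * (g7 * g7 * r3) * g7⁻¹ := by group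
        _ = (g7 * g7)⁻¹ * (r3 * g7) * g7⁻¹ := by rw [r3']
        _ = _ := by group
  · rw [map_mul, hw, r4]
  · simp only [map_mul, hr, hw]; exact r5
  · simp only [map_mul, hfn, one_mul, hw]
    rcases key with h | h <;> rw [h]
    · exact r6
    · have wi : w2⁻¹ = w2 := inv_eq_of_mul_eq_one_right r4
      have e6 : g7 * w2 * (g7 * w2) * (g7 * w2) = 1 := r6
      calc g7⁻¹ * w2 * (g7⁻¹ * w2) * (g7⁻¹ * w2)
          = g7⁻¹ * w2⁻¹ * (g7⁻¹ * w2⁻¹) * (g7⁻¹ * w2⁻¹) := by rw [wi]
        _ = g7⁻¹ * ((g7 * w2 * (g7 * w2) * (g7 * w2))⁻¹) * g7 := by group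
        _ = 1 := by rw [e6]; group
  · intro H hQH hsH hwH
    have hker : π.ker ≤ H := fun x hx => hQH ((hπ x).1 (MonoidHom.mem_ker.1 hx))
    have h1 : g7 ∈ H.map π := by
      rcases key with h | h
      · exact ⟨K.f n * u, hsH, by rw [hs, h]⟩
      · refine ⟨(K.f n * u)⁻¹, inv_mem hsH, ?_⟩
        rw [map_inv, hs, h, inv_inv]
    have h2 := l32_gen h1 ⟨w, hwH, hw⟩
    have := congrArg (Subgroup.comap π) h2
    rwa [Subgroup.comap_top, Subgroup.comap_map_eq_self hker] at this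

end CfsgLib.HeldMod
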