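import Cfsg.Agent.HeldU.Module.Norm

/-!
# The tables attached to a shape preserving one piece only, and what is checked on them
-/

set_option autoImplicit false

namespace CfsgLib.HeldMod

/-- A class of involutions of the image: members (as codes `64 k + n`) with parents, and either a
single witness or the data for counting square roots. -/
structure Cls where
  /-- The members. -/
  L : List ℕ
  /-- Parent and generator, as `8 p + g`. -/
  P : List ℕ
  /-- The square roots in the image. -/
  R : List ℕ
  /-- Square roots of the centre fixed by the element. -/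
  ns : List ℕ
  /-- An element flipped by the centre. -/
  fl : ℕ
  /-- An involution inverting the roots. -/
  Y : ℕ
  /-- A square root of the centre fixed by both. -/
  m : ℕ

/-- All the tables. -/
structure Dat where
  /-- The involution. -/
  W : ℕ
  /-- The bits vanishing on the normal piece. -/
  mask : ℕ
  /-- Lifts of the elements of the quotient of order `168`. -/
  Wd : List ℕ
  /-- Left multiplication by the first generator, as `128 k + m`. -/
  sS : List ℕ
  /-- Left multiplication by the second generator, as `128 k + m`. -/
  sW : List ℕ
  /-- Parent and generator, as `2 p + g`. -/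
  par : List ℕ
  /-- The class inside. -/
  inner : Cls
  /-- The classes outside. -/
  outer : List Cls
  /-- The piece without the centre. -/
  orb : List ℕ
  /-- Parent and generator, as `8 p + g`. -/
  orbP : List ℕ

namespace Dat

variable (D : Dat)

/-- The lift of the `k`-th element. -/
def wd (k : ℕ) : ℕ := D.Wd.getD k 0

/-- The element with a given code. -/
def val (j : ℕ) : ℕ := cmp (inn (j % 64)) (D.wd (j / 64))

/-- The eight generators. -/
def gen (i : ℕ) : ℕ :=
  if i = 0 then cS else if i = 1 then D.W else inn (1 <<< (i - 2))

/-- Membership in the normal piece. -/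
def inE (n : ℕ) : Bool := n &&& D.mask == 0

/-- The closure under the generators. -/
def stepOK : Bool :=
  D.wd 0 == one &&
  (List.range 168).all fun k =>
    decide ((D.sS.getD k 0) / 128 < 168) && decide ((D.sW.getD k 0) / 128 < 168) &&
      cmp (inn (D.sS.getD k 0 % 128)) (cmp cS (D.wd k)) == D.wd (D.sS.getD k 0 / 128) &&
      cmp (inn (D.sW.getD k 0 % 128)) (cmp D.W (D.wd k)) == D.wd (D.sW.getD k 0 / 128) &&
      (k == 0 ||
        (decide (D.par.getD k 0 / 2 < k) && !(mproj (D.wd k) == one) &&
          (if D.par.getD k 0 % 2 = 0 then D.sS.getD (D.par.getD k 0 / 2) 0 / 128 == k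
           else D.sW.getD (D.par.getD k 0 / 2) 0 / 128 == k)))

/-- A class is what it claims to be. -/
def clsOK (c : Cls) : Bool :=
  decide (28 ≤ c.L.length) && decide (((c.L.take 28).map D.val).Nodup) &&
    c.L.all (fun j => decide (j < 10752)) &&
    (List.range c.L.length).all fun i =>
      i == 0 ||
        (decide (c.P.getD i 0 / 8 < i) &&
          cmp (D.gen (c.P.getD i 0 % 8)) (D.val (c.L.getD (c.P.getD i 0 / 8) 0)) ==
            cmp (D.val (c.L.getD i 0)) (D.gen (c.P.getD i 0 % 8)))

/-- The square roots of the first member. -/
def rootsOK (c : Cls) : Bool :=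
  let X := D.val (c.L.getD 0 0)
  c.R.all (fun j => decide (j < 10752)) && decide (c.R.length ≤ 8) &&
  (List.range 168).all fun k =>
    !(mcmp (mproj (D.wd k)) (mproj (D.wd k)) == mproj X) ||
      (List.range 64).all fun n =>
        !(cmp (D.val (64 * k + n)) (D.val (64 * k + n)) == X) || c.R.contains (64 * k + n)

/-- The witnesses of the first member. -/
def witOK (c : Cls) : Bool :=
  let X := D.val (c.L.getD 0 0)
  decide (0 < c.ns.length) &&
    c.ns.all (fun n => decide (n < 128) && qm n n == 64 && ap X n == n) &&
    (c.R.isEmpty ||
      (decide c.ns.Nodup && c.ns.length == 4 && decide (c.fl < 128) && ap X c.fl == c.fl ^^^ 64 &&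
        decide (c.Y < 10752) && cmp (D.val c.Y) (D.val c.Y) == one &&
        !(mproj (D.val c.Y) == one) && !(mproj (D.val c.Y) == mproj X) && !(mproj X == one) &&
        decide (c.m < 128) && qm c.m c.m == 64 && ap X c.m == c.m && ap (D.val c.Y) c.m == c.m &&
        c.R.all fun r =>
          cmp (D.val r) (cmp (D.val c.Y) (cmp (D.val r) (D.val c.Y))) == one))

/-- Every involution of the image lies in a listed class or in the piece. -/
def coverOK : Bool :=
  ((List.range 128).all fun n =>
    beta n n || D.inE n || D.inner.L.contains (n &&& 63)) &&
  (List.range 168).all fun k =>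
    k == 0 || !(mcmp (mproj (D.wd k)) (mproj (D.wd k)) == one) ||
      (List.range 64).all fun n =>
        !(cmp (D.val (64 * k + n)) (D.val (64 * k + n)) == one) ||
          D.outer.any fun c => c.L.contains (64 * k + n)

/-- The piece is a normal elementary abelian subgroup of order sixteen, transitive off the centre. -/
def pieceOK : Bool :=
  decide (D.orb.Nodup) && D.orb.length == 14 && decide (((List.range 128).filter D.inE).length = 16) &&
    ((List.range 128).all fun n => !D.inE n || (n &&& 63 == 0 || D.orb.contains n)) &&
    ((List.range 128).all fun n => !D.inE n ||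
      (D.inE (ap cS n) && D.inE (ap D.W n) && D.inE (n ^^^ 64) && qm n n == 0)) &&
    ((List.range 128).all fun n => !D.inE n || (List.range 128).all fun m =>
      !D.inE m || (D.inE (qm n m) && qm n m == qm m n)) &&
    D.inE 64 && D.inE 0 &&
    D.orb.all (fun n => decide (n < 128) && D.inE n) &&
    (List.range 14).all fun i =>
      i == 0 ||
        (decide (D.orbP.getD i 0 / 8 < i) &&
          ap (D.gen (D.orbP.getD i 0 % 8)) (D.orb.getD (D.orbP.getD i 0 / 8) 0) == D.orb.getD i 0)

end Dat

/-- All the checks. -/
structure Dat.OK (D : Dat) : Prop where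
  step : D.stepOK = true
  cls : ∀ c ∈ D.inner :: D.outer, D.clsOK c = true
  roots : ∀ c ∈ D.inner :: D.outer, D.rootsOK c = true
  wit : ∀ c ∈ D.inner :: D.outer, D.witOK c = true
  cover : D.coverOK = true
  piece : D.pieceOK = true

end CfsgLib.HeldMod
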